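import Mathlib

/-!
# An involution of field type is not conjugate to `t` inside `S = U* T`

`T` is a Sylow 2-subgroup of `C_G(t)`, `U ≤ T`, `U*` is a 2-group normalised by `T` with `C_{U*}(t) = U`, `T / U` is
abelian. `v ∈ T` is an involution outside `U*` such that `C_{U*}(v)` has a noncentral element with few conjugates. If
every noncentral element of `U` has many conjugates (and some facts on the centre of `U`), then `v` is not conjugate
to `t` by an element `g` with `g⁻¹ T g ≤ U* T`.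
-/

set_option autoImplicit false

namespace Cfsg.Agent.OddHalf.Out.Exclude

open Subgroup

variable {G : Type*} [Group G]

/-- The frame. -/
structure Fr (t : G) (T U Us : Subgroup G) : Prop where
  tt : t * t = 1
  T2 : IsPGroup 2 T
  tT : t ∈ T
  Tc : ∀ d ∈ T, d * t = t * d
  Tmax : ∀ P : Subgroup G, IsPGroup 2 P → T ≤ P → (∀ x ∈ P, x * t = t * x) → P ≤ T
  Us2 : IsPGroup 2 Us
  norm : ∀ d ∈ T, ∀ w ∈ Us, d * w * d⁻¹ ∈ Us
  UT : U ≤ T
  hU : ∀ w, w ∈ U ↔ w ∈ Us ∧ w * t = t * w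
  ab : ∀ a ∈ T, ∀ b ∈ T, a * b * a⁻¹ * b⁻¹ ∈ U

namespace Fr

variable {t : G} {T U Us : Subgroup G}

theorem le (F : Fr t T U Us) : U ≤ Us := fun w hw => ((F.hU w).1 hw).1

/-- The group `S = T U*`. -/
def S (F : Fr t T U Us) : Subgroup G where
  carrier := {s | ∃ d ∈ T, ∃ w ∈ Us, s = d * w}
  one_mem' := ⟨1, one_mem _, 1, one_mem _, (mul_one 1).symm⟩
  mul_mem' := by
    rintro _ _ ⟨d, hd, w, hw, rfl⟩ ⟨d', hd', w', hw', rfl⟩
    refine ⟨d * d', mul_mem hd hd', (d'⁻¹ * w * d') * w', mul_mem ?_ hw', by group⟩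
    have := F.norm _ (inv_mem hd') w hw
    rwa [inv_inv] at this
  inv_mem' := by
    rintro _ ⟨d, hd, w, hw, rfl⟩
    refine ⟨d⁻¹, inv_mem hd, d * w⁻¹ * d⁻¹, F.norm d hd _ (inv_mem hw), by group⟩

theorem mem_S (F : Fr t T U Us) {s : G} : s ∈ F.S ↔ ∃ d ∈ T, ∃ w ∈ Us, s = d * w := Iff.rfl

theorem T_le (F : Fr t T U Us) : T ≤ F.S := fun d hd => ⟨d, hd, 1, one_mem _, (mul_one d).symm⟩

theorem Us_le (F : Fr t T U Us) : Us ≤ F.S := fun w hw => ⟨1, one_mem _, w, hw, (one_mul w).symm⟩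

theorem S_norm (F : Fr t T U Us) {s w : G} (hs : s ∈ F.S) (hw : w ∈ Us) : s * w * s⁻¹ ∈ Us := by
  obtain ⟨d, hd, w', hw', rfl⟩ := hs
  have h1 := F.norm d hd _ (mul_mem (mul_mem hw' hw) (inv_mem hw'))
  have h2 : d * (w' * w * w'⁻¹) * d⁻¹ = d * w' * w * (d * w')⁻¹ := by group
  rwa [h2] at h1

theorem S2 (F : Fr t T U Us) : IsPGroup 2 F.S := by
  have h1 : F.S = T ⊔ Us := by
    apply le_antisymm
    · rintro _ ⟨d, hd, w, hw, rfl⟩
      exact mul_mem (mem_sup_left hd) (mem_sup_right hw)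
    · exact sup_le F.T_le F.Us_le
  rw [h1]
  refine IsPGroup.to_sup_of_normal_right' F.T2 F.Us2 ?_
  intro d hd
  rw [mem_normalizer_iff]
  intro w
  refine ⟨fun hw => F.norm d hd w hw, fun hw => ?_⟩
  have h2 := F.norm _ (inv_mem hd) _ hw
  have h3 : d⁻¹ * (d * w * d⁻¹) * d⁻¹⁻¹ = w := by group
  rwa [h3] at h2

/-- `S / U*` is abelian. -/
theorem comm_mem (F : Fr t T U Us) {a b : G} (ha : a ∈ F.S) (hb : b ∈ F.S) : a * b * a⁻¹ * b⁻¹ ∈ Us := by
  obtain ⟨d, hd, w, hw, rfl⟩ := ha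
  obtain ⟨e, he, x, hx, rfl⟩ := hb
  have h0 : d * e * d⁻¹ * e⁻¹ ∈ Us := F.le (F.ab d hd e he)
  -- `[d w, e x] = d w e x w⁻¹ d⁻¹ x⁻¹ e⁻¹`
  have hE : ∀ d ∈ T, ∀ w ∈ Us, d⁻¹ * w * d ∈ Us := by
    intro d hd w hw
    have := F.norm _ (inv_mem hd) w hw
    rwa [inv_inv] at this
  have h1 : d * w * (e * x) * (d * w)⁻¹ * (e * x)⁻¹ =
      (d * (w * (e * (x * w⁻¹) * e⁻¹)) * d⁻¹) * (d * e * d⁻¹ * e⁻¹) * (e * x⁻¹ * e⁻¹) := by group
  rw [h1]
  refine mul_mem (mul_mem (F.norm d hd _ (mul_mem hw (F.norm e he _ (mul_mem hx (inv_mem hw))))) h0) ?_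
  exact F.norm e he _ (inv_mem hx)

/-- `C_S(t) = T`. -/
theorem cent_S (F : Fr t T U Us) {s : G} (hs : s ∈ F.S) (hst : s * t = t * s) : s ∈ T := by
  obtain ⟨d, hd, w, hw, rfl⟩ := hs
  have h1 : w * t = t * w := by
    have h2 := F.Tc d hd
    have h3 : d * (w * t) = d * (t * w) := by
      rw [← mul_assoc, hst, ← mul_assoc, ← mul_assoc, h2]
    exact mul_left_cancel h3
  exact mul_mem hd (F.UT ((F.hU w).2 ⟨hw, h1⟩))

/-- If `g⁻¹ T g ≤ S` then `g C_S(g⁻¹ t g) g⁻¹ ≤ T`. -/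
theorem conj_mem (F : Fr t T U Us) {g : G} (hg : ∀ d ∈ T, g⁻¹ * d * g ∈ F.S) {c : G} (hc : c ∈ F.S)
    (hcv : c * (g⁻¹ * t * g) = g⁻¹ * t * g * c) : g * c * g⁻¹ ∈ T := by
  let P : Subgroup G := (F.S ⊓ centralizer ({g⁻¹ * t * g} : Set G)).map (MulAut.conj g).toMonoidHom
  have hP : P ≤ T := by
    apply F.Tmax P
    · exact (F.S2.to_le inf_le_left).map _
    · intro d hd
      refine ⟨g⁻¹ * d * g, ⟨hg d hd, mem_centralizer_singleton_iff.2 ?_⟩, ?_⟩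
      · calc g⁻¹ * d * g * (g⁻¹ * t * g) = g⁻¹ * (d * t) * g := by group
          _ = g⁻¹ * (t * d) * g := by rw [F.Tc d hd]
          _ = g⁻¹ * t * g * (g⁻¹ * d * g) := by group
      · change g * (g⁻¹ * d * g) * g⁻¹ = d
        group
    · rintro _ ⟨x, ⟨-, hx⟩, rfl⟩
      replace hx := mem_centralizer_singleton_iff.1 hx
      change g * x * g⁻¹ * t = t * (g * x * g⁻¹)
      calc g * x * g⁻¹ * t = g * (x * (g⁻¹ * t * g)) * g⁻¹ := by group
        _ = g * (g⁻¹ * t * g * x) * g⁻¹ := by rw [hx]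
        _ = t * (g * x * g⁻¹) := by group
  exact hP ⟨c, ⟨hc, mem_centralizer_singleton_iff.2 hcv⟩, rfl⟩

end Fr

/-- `|U| ≤ |C_{U*}(v)|` if `v = g⁻¹ t g` and `g⁻¹ T g ≤ S`. -/
theorem card_le [Finite G] {t : G} {T U Us : Subgroup G} (F : Fr t T U Us) {g v : G} (hv : g⁻¹ * t * g = v)
    (hg : ∀ d ∈ T, g⁻¹ * d * g ∈ F.S) :
    Nat.card U ≤ Nat.card (Us ⊓ centralizer ({v} : Set G) : Subgroup G) := by
  set P0 : Subgroup G := F.S ⊓ centralizer ({v} : Set G) with hP0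
  -- `|T| ≤ |P0|`
  have h1 : Nat.card T ≤ Nat.card P0 := by
    refine Nat.card_le_card_of_injective
      (fun d : T => (⟨g⁻¹ * d * g, hg d d.2, mem_centralizer_singleton_iff.2 ?_⟩ : P0)) ?_
    · rw [← hv]
      calc g⁻¹ * d * g * (g⁻¹ * t * g) = g⁻¹ * (d * t) * g := by group
        _ = g⁻¹ * (t * d) * g := by rw [F.Tc d d.2]
        _ = g⁻¹ * t * g * (g⁻¹ * d * g) := by group
    · intro a b hab
      have h2 : g⁻¹ * (a : G) * g = g⁻¹ * b * g := congrArg Subtype.val hab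
      exact Subtype.ext (mul_left_cancel (mul_right_cancel h2))
  -- `|T : U| ≥ |S : U*| ≥ |P0 : P0 ∩ U*|`
  have h2 : Us.relIndex F.S ≤ Us.relIndex T := by
    rw [relIndex, relIndex, index, index]
    refine Nat.card_le_card_of_surjective (fun q : T ⧸ Us.subgroupOf T =>
      (Quotient.map' (fun d : T => (⟨d, F.T_le d.2⟩ : F.S)) ?_ q : F.S ⧸ Us.subgroupOf F.S)) ?_
    · intro a b hab
      rw [QuotientGroup.leftRel_apply] at hab ⊢
      exact hab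
    · intro q
      obtain ⟨⟨s, hs⟩, rfl⟩ := QuotientGroup.mk_surjective q
      obtain ⟨d, hd, w, hw, rfl⟩ := hs
      refine ⟨((⟨d, hd⟩ : T) : T ⧸ Us.subgroupOf T), ?_⟩
      change ((⟨d, F.T_le hd⟩ : F.S) : F.S ⧸ Us.subgroupOf F.S) = _
      rw [QuotientGroup.eq, mem_subgroupOf]
      change d⁻¹ * (d * w) ∈ Us
      rw [inv_mul_cancel_left]
      exact hw
  have h3 : Us.relIndex P0 ≤ Us.relIndex F.S := by
    apply relIndex_le_of_le_right (inf_le_left : P0 ≤ F.S)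
    rw [relIndex]
    exact index_ne_zero_of_finite
  have h4 : Us ⊓ centralizer ({v} : Set G) = Us ⊓ P0 := by
    apply le_antisymm
    · exact le_inf inf_le_left (le_inf (inf_le_left.trans F.Us_le) inf_le_right)
    · exact le_inf inf_le_left (inf_le_right.trans inf_le_right)
  have h5 : T ⊓ Us = U := by
    ext w
    refine ⟨fun hw => (F.hU w).2 ⟨hw.2, F.Tc w hw.1⟩, fun hw => ⟨F.UT hw, F.le hw⟩⟩
  have h6 : Nat.card (Us ⊓ P0 : Subgroup G) * Us.relIndex P0 = Nat.card P0 := by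
    have := relIndex_mul_relIndex (⊥ : Subgroup G) (Us ⊓ P0) P0 bot_le inf_le_right
    rwa [relIndex_bot_left, relIndex_bot_left, inf_relIndex_right] at this
  have h7 : Nat.card (Us ⊓ T : Subgroup G) * Us.relIndex T = Nat.card T := by
    have := relIndex_mul_relIndex (⊥ : Subgroup G) (Us ⊓ T) T bot_le inf_le_right
    rwa [relIndex_bot_left, relIndex_bot_left, inf_relIndex_right] at this
  rw [inf_comm, h5] at h7
  rw [h4]
  by_contra hlt
  push Not at hlt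
  have h8 : 0 < Us.relIndex T := by
    rw [relIndex]
    exact Nat.pos_of_ne_zero index_ne_zero_of_finite
  have h9 : Nat.card (Us ⊓ P0 : Subgroup G) * Us.relIndex P0 < Nat.card U * Us.relIndex T := by
    calc Nat.card (Us ⊓ P0 : Subgroup G) * Us.relIndex P0
        ≤ Nat.card (Us ⊓ P0 : Subgroup G) * Us.relIndex T := Nat.mul_le_mul_left _ (h3.trans h2)
      _ < Nat.card U * Us.relIndex T := Nat.mul_lt_mul_of_pos_right hlt h8
  rw [h6, h7] at h9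
  omega

/-- **The type of `v` is excluded.** -/
theorem excluded [Finite G] {t : G} {T U Us : Subgroup G} (F : Fr t T U Us) {v : G} (hvU : v ∉ Us)
    (Z Zs : Subgroup G) (ZsU : Zs ≤ Us) (Zc : ∀ z ∈ Zs, ∀ w ∈ Us, z * w = w * z)
    (k0 : ∀ z ∈ Zs, ∀ g : G, g⁻¹ * t * g ≠ z) (k0' : ∀ z ∈ Z, ∃ g : G, g⁻¹ * t * g = t * z)
    (hcard : Nat.card Z ≤ Nat.card (Zs ⊓ centralizer ({v} : Set G) : Subgroup G))
    (k1 : ∀ c ∈ T, (∀ a ∈ T, ∀ b ∈ T, c * (a * b * a⁻¹ * b⁻¹) = a * b * a⁻¹ * b⁻¹ * c) → c ∈ Z ∨ t * c ∈ Z)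
    (k2 : ∀ c ∈ T, (∀ z ∈ Z, c * z = z * c) → c ∈ U ∨ t * c ∈ U)
    {q : ℕ} (k3 : ∀ u ∈ U, (∃ c ∈ U, c * u ≠ u * c) → q ≤ Set.ncard {x | ∃ c ∈ U, x = c * u * c⁻¹})
    {y : G} (hy : y ∈ Us) (hyv : y * v = v * y) (hyn : ∃ c ∈ Us, c * v = v * c ∧ c * y ≠ y * c)
    (hyq : Set.ncard {x | ∃ c ∈ Us, c * v = v * c ∧ x = c * y * c⁻¹} < q) {g : G} (hv : g⁻¹ * t * g = v)
    (hg : ∀ d ∈ T, g⁻¹ * d * g ∈ F.S) : False := by
  classical
  have ti : t⁻¹ = t := inv_eq_of_mul_eq_one_left F.tt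
  -- transport
  have hT : ∀ c ∈ F.S, c * v = v * c → g * c * g⁻¹ ∈ T := by
    intro c hc hcv
    apply F.conj_mem hg hc
    rw [hv]
    exact hcv
  have hT' : ∀ d ∈ T, g⁻¹ * d * g * v = v * (g⁻¹ * d * g) := by
    intro d hd
    rw [← hv]
    calc g⁻¹ * d * g * (g⁻¹ * t * g) = g⁻¹ * (d * t) * g := by group
      _ = g⁻¹ * (t * d) * g := by rw [F.Tc d hd]
      _ = g⁻¹ * t * g * (g⁻¹ * d * g) := by group
  -- commutators of `T` are carried into `U*`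
  have hcomm : ∀ a ∈ T, ∀ b ∈ T, g⁻¹ * (a * b * a⁻¹ * b⁻¹) * g ∈ Us := by
    intro a ha b hb
    have h1 := F.comm_mem (hg a ha) (hg b hb)
    have h2 : g⁻¹ * a * g * (g⁻¹ * b * g) * (g⁻¹ * a * g)⁻¹ * (g⁻¹ * b * g)⁻¹ = g⁻¹ * (a * b * a⁻¹ * b⁻¹) * g := by
      group
    rwa [h2] at h1
  -- `Zs ∩ C(v)` is carried into `Z`
  have hZ : ∀ z ∈ Zs, z * v = v * z → g * z * g⁻¹ ∈ Z := by
    intro z hz hzv
    have h1 : g * z * g⁻¹ ∈ T := hT z (F.Us_le (ZsU hz)) hzv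
    rcases k1 _ h1 (fun a ha b hb => by
      have h2 := Zc z hz _ (hcomm a ha b hb)
      calc g * z * g⁻¹ * (a * b * a⁻¹ * b⁻¹) = g * (z * (g⁻¹ * (a * b * a⁻¹ * b⁻¹) * g)) * g⁻¹ := by group
        _ = g * (g⁻¹ * (a * b * a⁻¹ * b⁻¹) * g * z) * g⁻¹ := by rw [h2]
        _ = a * b * a⁻¹ * b⁻¹ * (g * z * g⁻¹) := by group) with h2 | h2
    · exact h2
    · exfalso
      obtain ⟨h, hh⟩ := k0' _ h2
      apply k0 z hz (h * g)
      rw [← mul_assoc t, F.tt, one_mul] at hh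
      calc (h * g)⁻¹ * t * (h * g) = g⁻¹ * (h⁻¹ * t * h) * g := by group
        _ = g⁻¹ * (g * z * g⁻¹) * g := by rw [hh]
        _ = z := by group
  -- ... onto `Z`
  have hZ' : ∀ z ∈ Z, ∃ z' ∈ Zs, z' * v = v * z' ∧ z = g * z' * g⁻¹ := by
    have hmem : ∀ x : (Zs ⊓ centralizer ({v} : Set G) : Subgroup G), (x : G) * v = v * x := fun x =>
      mem_centralizer_singleton_iff.1 x.2.2
    let f : (Zs ⊓ centralizer ({v} : Set G) : Subgroup G) → Z := fun x => ⟨g * x * g⁻¹, hZ x x.2.1 (hmem x)⟩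
    have hf : Function.Injective f := by
      intro a b hab
      have h2 : g * (a : G) * g⁻¹ = g * b * g⁻¹ := congrArg Subtype.val hab
      exact Subtype.ext (mul_left_cancel (mul_right_cancel h2))
    have hs : Function.Bijective f := hf.bijective_of_nat_card_le hcard
    intro z hz
    obtain ⟨x, hx⟩ := hs.2 ⟨z, hz⟩
    exact ⟨x, x.2.1, hmem x, (congrArg Subtype.val hx).symm⟩
  -- `X = g C_{U*}(v) g⁻¹ ≤ ⟨t⟩ U`
  have hX : ∀ x ∈ Us, x * v = v * x → g * x * g⁻¹ ∈ U ∨ t * (g * x * g⁻¹) ∈ U := by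
    intro x hx hxv
    apply k2 _ (hT x (F.Us_le hx) hxv)
    intro z hz
    obtain ⟨z', hz', -, rfl⟩ := hZ' z hz
    have h2 := Zc z' hz' x hx
    calc g * x * g⁻¹ * (g * z' * g⁻¹) = g * (x * z') * g⁻¹ := by group
      _ = g * (z' * x) * g⁻¹ := by rw [h2]
      _ = g * z' * g⁻¹ * (g * x * g⁻¹) := by group
  -- the projection to `U` is onto
  have hmemX : ∀ x : (Us ⊓ centralizer ({v} : Set G) : Subgroup G), (x : G) * v = v * x := fun x =>
    mem_centralizer_singleton_iff.1 x.2.2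
  let p : (Us ⊓ centralizer ({v} : Set G) : Subgroup G) → U := fun x =>
    if h : g * (x : G) * g⁻¹ ∈ U then ⟨_, h⟩ else ⟨t * (g * x * g⁻¹), (hX x x.2.1 (hmemX x)).resolve_left h⟩
  have hpval : ∀ x, (p x : G) = g * (x : G) * g⁻¹ ∨ (p x : G) = t * (g * x * g⁻¹) := by
    intro x
    by_cases h : g * (x : G) * g⁻¹ ∈ U
    · left
      simp only [p, dif_pos h]
    · right
      simp only [p, dif_neg h]
  have hnt : ∀ a b : (Us ⊓ centralizer ({v} : Set G) : Subgroup G),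
      g * (a : G) * g⁻¹ ≠ t * (g * b * g⁻¹) := by
    intro a b hab
    apply hvU
    have h1 : v = (a : G) * (b : G)⁻¹ := by
      have h2 : (a : G) = g⁻¹ * (t * (g * b * g⁻¹)) * g := by rw [← hab]; group
      have h3 : (a : G) = v * b := by
        calc (a : G) = g⁻¹ * (t * (g * b * g⁻¹)) * g := h2
          _ = (g⁻¹ * t * g) * b := by group
          _ = v * b := congrArg (fun x => x * (b : G)) hv
      calc v = v * b * (b : G)⁻¹ := by group
        _ = (a : G) * (b : G)⁻¹ := congrArg (fun x => x * (b : G)⁻¹) h3.symm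
    rw [h1]
    exact mul_mem a.2.1 (inv_mem b.2.1)
  have hpinj : Function.Injective p := by
    intro a b hab
    have h1 : (p a : G) = p b := congrArg Subtype.val hab
    apply Subtype.ext
    rcases hpval a with h2 | h2 <;> rcases hpval b with h3 | h3 <;> rw [h2, h3] at h1
    · exact mul_left_cancel (mul_right_cancel h1)
    · exact absurd h1 (hnt a b)
    · exact absurd h1.symm (hnt b a)
    · exact mul_left_cancel (mul_right_cancel (mul_left_cancel h1))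
  have hpsurj : Function.Surjective p := (hpinj.bijective_of_nat_card_le (card_le F hv hg)).2
  -- the element `y`
  have hyT : g * y * g⁻¹ ∈ T := hT y (F.Us_le hy) hyv
  obtain ⟨u, hu, e, he, hue⟩ : ∃ u ∈ U, ∃ e : G, (e = 1 ∨ e = t) ∧ u = e * (g * y * g⁻¹) := by
    rcases hX y hy hyv with h | h
    · exact ⟨_, h, 1, Or.inl rfl, (one_mul _).symm⟩
    · exact ⟨_, h, t, Or.inr rfl, rfl⟩
  have hec : ∀ d ∈ T, d * e = e * d := by
    intro d hd
    rcases he with rfl | rfl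
    · rw [mul_one, one_mul]
    · exact F.Tc d hd
  have heT : e ∈ T := by
    rcases he with rfl | rfl
    · exact one_mem _
    · exact F.tT
  -- conjugates of `u`
  have hcu : ∀ c ∈ Us, ∀ hc : c * v = v * c, ∀ e' : G, (e' = 1 ∨ e' = t) →
      (e' * (g * c * g⁻¹)) * u * (e' * (g * c * g⁻¹))⁻¹ = e * (g * (c * y * c⁻¹) * g⁻¹) := by
    intro c hc hcv e' he'
    have hcT : g * c * g⁻¹ ∈ T := hT c (F.Us_le hc) hcv
    have he'c : ∀ d ∈ T, e' * d * e'⁻¹ = d := by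
      intro d hd
      rcases he' with rfl | rfl
      · group
      · rw [← F.Tc d hd]; group
    calc (e' * (g * c * g⁻¹)) * u * (e' * (g * c * g⁻¹))⁻¹
        = e' * ((g * c * g⁻¹) * u * (g * c * g⁻¹)⁻¹) * e'⁻¹ := by group
      _ = (g * c * g⁻¹) * u * (g * c * g⁻¹)⁻¹ := he'c _ (mul_mem (mul_mem hcT (F.UT hu)) (inv_mem hcT))
      _ = (g * c * g⁻¹ * e) * (g * y * g⁻¹) * (g * c * g⁻¹)⁻¹ := by rw [hue]; group
      _ = e * (g * c * g⁻¹) * (g * y * g⁻¹) * (g * c * g⁻¹)⁻¹ := by rw [hec _ hcT]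
      _ = e * (g * (c * y * c⁻¹) * g⁻¹) := by group
  have hsub : {x | ∃ c ∈ U, x = c * u * c⁻¹} ⊆
      (fun x => e * (g * x * g⁻¹)) '' {x | ∃ c ∈ Us, c * v = v * c ∧ x = c * y * c⁻¹} := by
    rintro x ⟨c, hc, rfl⟩
    obtain ⟨c', hc'⟩ := hpsurj ⟨c, hc⟩
    have h1 : (p c' : G) = c := congrArg Subtype.val hc'
    refine ⟨c' * y * (c' : G)⁻¹, ⟨c', c'.2.1, hmemX c', rfl⟩, ?_⟩
    change e * (g * (c' * y * (c' : G)⁻¹) * g⁻¹) = c * u * c⁻¹
    rcases hpval c' with h2 | h2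
    · rw [← hcu c' c'.2.1 (hmemX c') 1 (Or.inl rfl), ← h1, h2, one_mul]
    · rw [← hcu c' c'.2.1 (hmemX c') t (Or.inr rfl), ← h1, h2]
  have h1 : Set.ncard {x | ∃ c ∈ U, x = c * u * c⁻¹} < q :=
    lt_of_le_of_lt ((Set.ncard_le_ncard hsub (Set.toFinite _)).trans (Set.ncard_image_le (Set.toFinite _))) hyq
  have h2 : ∃ c ∈ U, c * u ≠ u * c := by
    obtain ⟨c, hc, hcv, hcy⟩ := hyn
    obtain ⟨e', he', hce⟩ : ∃ e' : G, (e' = 1 ∨ e' = t) ∧ e' * (g * c * g⁻¹) ∈ U := by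
      rcases hX c hc hcv with h | h
      · exact ⟨1, Or.inl rfl, by rwa [one_mul]⟩
      · exact ⟨t, Or.inr rfl, h⟩
    refine ⟨_, hce, fun hcon => hcy ?_⟩
    have h3 := hcu c hc hcv e' he'
    rw [hcon, mul_inv_cancel_right, hue] at h3
    have h4 := mul_left_cancel h3
    have h5 : y = c * y * c⁻¹ := mul_left_cancel (mul_right_cancel h4)
    exact (mul_inv_eq_iff_eq_mul.1 h5.symm)
  exact absurd (k3 u hu h2) (not_le.2 h1)

end Cfsg.Agent.OddHalf.Out.Exclude
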