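import Cfsg.Agent.OddHalf.D9.TransferGen

/-!
# Transfer into an abelian group when all but one of the other types of involutions are excluded

`φ : S →* A`, `A` abelian, `t ∈ S` an involution with `a = φ t ≠ 1`; all conjugates of `t` in `S` with `φ = a` are
`S`-conjugate to `t`; `C_S(t)` has odd index in `C_G(t)`; `T` is a 2-group centralising `t`; if `g⁻¹ T g ≤ S` then
`φ (g⁻¹ t g)` is `a`, `1` or the fixed element `c ≠ a`. Then the transfer of `t` is not trivial.
-/

set_option autoImplicit false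

namespace Cfsg.Agent.OddHalf.Out.Transfer

open MulAction Cfsg.Agent.OddHalf.D9.TransferGen

variable {G : Type*} [Group G]

theorem prod_eq_one_or {X A : Type*} [CommGroup A] (s : Finset X) (f : X → A) (c : A)
    (h2 : ∀ x ∈ s, f x ^ 2 = 1) (h : ∀ x ∈ s, f x = 1 ∨ f x = c) : ∏ x ∈ s, f x = 1 ∨ ∏ x ∈ s, f x = c := by
  classical
  by_cases hc : c ^ 2 = 1
  · induction s using Finset.induction_on with
    | empty => left; simp
    | insert x s hx ih =>
      rw [Finset.prod_insert hx]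
      have h1 := h x (Finset.mem_insert_self x s)
      have h3 := ih (fun y hy => h2 y (Finset.mem_insert_of_mem hy)) (fun y hy => h y (Finset.mem_insert_of_mem hy))
      rcases h1 with h1 | h1 <;> rcases h3 with h3 | h3 <;> rw [h1, h3]
      · left; rw [one_mul]
      · right; rw [one_mul]
      · right; rw [mul_one]
      · left; rw [← pow_two, hc]
  · left
    apply Finset.prod_eq_one
    intro x hx
    rcases h x hx with h1 | h1
    · exact h1
    · exact absurd (h1 ▸ h2 x hx) hc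

open Classical in
/-- The number of fixed cosets of type `φ t`. -/
theorem card_eq {A : Type*} [CommGroup A] [Finite G] (S : Subgroup G) (φ : S →* A) {t : G} (tS : t ∈ S)
    [Fintype (G ⧸ S)]
    (hcl : ∀ g : G, ∀ h : g⁻¹ * t * g ∈ S, φ ⟨g⁻¹ * t * g, h⟩ = φ ⟨t, tS⟩ → ∃ k ∈ S, g⁻¹ * t * g = k * t * k⁻¹) :
    (Finset.univ.filter (fun q : G ⧸ S => t • q = q ∧ val S φ t q = φ ⟨t, tS⟩)).card =
      S.relIndex (Subgroup.centralizer ({t} : Set G)) := by
  set C : Subgroup G := Subgroup.centralizer ({t} : Set G) with hC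
  have hmem : ∀ g, g ∈ C ↔ g * t = t * g := fun g => Subgroup.mem_centralizer_singleton_iff
  rw [Subgroup.relIndex, Subgroup.index]
  have h0 : (Finset.univ.filter (fun q : G ⧸ S => t • q = q ∧ val S φ t q = φ ⟨t, tS⟩)).card =
      Nat.card {q : G ⧸ S // t • q = q ∧ val S φ t q = φ ⟨t, tS⟩} := by
    rw [Nat.card_eq_fintype_card, Fintype.card_subtype]
  rw [h0]
  symm
  refine Nat.card_congr (Equiv.ofBijective (fun q : C ⧸ S.subgroupOf C =>
    (⟨Quotient.liftOn' q (fun c => ((c : G) : G ⧸ S)) ?_, ?_⟩ :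
      {q : G ⧸ S // t • q = q ∧ val S φ t q = φ ⟨t, tS⟩})) ⟨?_, ?_⟩)
  · intro a b hab
    rw [QuotientGroup.leftRel_apply, Subgroup.mem_subgroupOf] at hab
    rw [QuotientGroup.eq]
    exact hab
  · obtain ⟨c, rfl⟩ := QuotientGroup.mk_surjective q
    change t • ((c : G) : G ⧸ S) = ((c : G) : G ⧸ S) ∧ val S φ t ((c : G) : G ⧸ S) = φ ⟨t, tS⟩
    have h1 : (c : G)⁻¹ * t * c = t := by
      have := (hmem _).1 c.2
      rw [mul_assoc, ← this, inv_mul_cancel_left]
    have h2 : (c : G)⁻¹ * t * c ∈ S := by rw [h1]; exact tS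
    refine ⟨(smul_mk_eq S t c).2 h2, ?_⟩
    rw [val_mk S φ t c h2]
    congr 1
    exact Subtype.ext h1
  · intro q1 q2 h
    obtain ⟨c1, rfl⟩ := QuotientGroup.mk_surjective q1
    obtain ⟨c2, rfl⟩ := QuotientGroup.mk_surjective q2
    have h1 : ((c1 : G) : G ⧸ S) = ((c2 : G) : G ⧸ S) := congrArg Subtype.val h
    rw [QuotientGroup.eq] at h1
    rw [QuotientGroup.eq, Subgroup.mem_subgroupOf]
    exact h1
  · rintro ⟨q, hq1, hq2⟩
    obtain ⟨g, rfl⟩ := QuotientGroup.mk_surjective q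
    have h := (smul_mk_eq S t g).1 hq1
    rw [val_mk S φ t g h] at hq2
    obtain ⟨k, hk, hgk⟩ := hcl g h hq2
    have hc : g * k ∈ C := by
      rw [hmem]
      have : t = g * (k * t * k⁻¹) * g⁻¹ := by rw [← hgk]; group
      calc g * k * t = g * (k * t * k⁻¹) * g⁻¹ * (g * k) := by group
        _ = t * (g * k) := by rw [← this]
    refine ⟨((⟨g * k, hc⟩ : C) : C ⧸ S.subgroupOf C), Subtype.ext ?_⟩
    change ((g * k : G) : G ⧸ S) = (g : G ⧸ S)
    rw [eq_comm, QuotientGroup.eq, inv_mul_cancel_left]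
    exact hk

/-- **The transfer of `t` is not trivial.** -/
theorem transfer_ne_one {A : Type*} [CommGroup A] [Finite G] (S : Subgroup G) (φ : S →* A) {t : G}
    (tt : t * t = 1) (tS : t ∈ S) (hat : φ ⟨t, tS⟩ ≠ 1)
    (hcl : ∀ g : G, ∀ h : g⁻¹ * t * g ∈ S, φ ⟨g⁻¹ * t * g, h⟩ = φ ⟨t, tS⟩ → ∃ k ∈ S, g⁻¹ * t * g = k * t * k⁻¹)
    (hodd : Odd (S.relIndex (Subgroup.centralizer ({t} : Set G))))
    (T : Subgroup G) (hT : IsPGroup 2 T) (hTt : ∀ d ∈ T, d * t = t * d)
    (c : A) (hc : c ≠ φ ⟨t, tS⟩)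
    (hex : ∀ g : G, (∀ d ∈ T, g⁻¹ * d * g ∈ S) → ∀ h : g⁻¹ * t * g ∈ S, φ ⟨g⁻¹ * t * g, h⟩ = φ ⟨t, tS⟩ ∨
      φ ⟨g⁻¹ * t * g, h⟩ = 1 ∨ φ ⟨g⁻¹ * t * g, h⟩ = c) :
    MonoidHom.transfer φ t ≠ 1 := by
  classical
  have : Fintype (G ⧸ S) := Fintype.ofFinite _
  set a : A := φ ⟨t, tS⟩ with ha
  have ht2 : t ^ 2 = 1 := by rw [pow_two, tt]
  rw [transfer_eq S φ t ?_]
  · have hsq : ∀ q : G ⧸ S, t • q = q → val S φ t q ^ 2 = 1 := by
      intro q hq
      obtain ⟨g, rfl⟩ := QuotientGroup.mk_surjective q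
      have h := (smul_mk_eq S t g).1 hq
      rw [val_mk S φ t g h, ← map_pow]
      have h1 : (⟨g⁻¹ * t * g, h⟩ : S) ^ 2 = 1 := by
        apply Subtype.ext
        rw [Subgroup.coe_pow]
        change (g⁻¹ * t * g) ^ 2 = 1
        calc (g⁻¹ * t * g) ^ 2 = g⁻¹ * (t * t) * g := by rw [pow_two]; group
          _ = 1 := by rw [tt]; group
      rw [h1, map_one]
    have hfix : ∀ d ∈ T, ∀ q : G ⧸ S, t • q = q → t • (d • q) = d • q := by
      intro d hd q hq
      rw [← mul_smul, ← hTt d hd, mul_smul, hq]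
    rw [← Finset.prod_filter_mul_prod_filter_not (Finset.univ.filter (fun q : G ⧸ S => t • q = q))
      (fun q => val S φ t q = a)]
    -- the first factor is `a`
    have h1 : ∏ q ∈ (Finset.univ.filter (fun q : G ⧸ S => t • q = q)).filter (fun q => val S φ t q = a),
        val S φ t q = a := by
      rw [Finset.prod_congr rfl (fun q hq => (Finset.mem_filter.1 hq).2), Finset.prod_const]
      have h2 : ((Finset.univ.filter (fun q : G ⧸ S => t • q = q)).filter (fun q => val S φ t q = a)).card =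
          S.relIndex (Subgroup.centralizer ({t} : Set G)) := by
        rw [← card_eq S φ tS hcl, Finset.filter_filter]
      rw [h2]
      obtain ⟨m, hm⟩ := hodd
      have h3 : a ^ 2 = 1 := by
        rw [ha, ← map_pow]
        have h1 : (⟨t, tS⟩ : S) ^ 2 = 1 := Subtype.ext (by rw [Subgroup.coe_pow]; exact ht2)
        rw [h1, map_one]
      rw [hm, pow_succ, pow_mul, h3, one_pow, one_mul]
    rw [h1]
    -- the second factor is `1` or `c`
    have hact : ∀ (d : T) (q : G ⧸ S), d • q = (d : G) • q := fun _ _ => rfl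
    have h2 := prod_fixed hT
      ((Finset.univ.filter (fun q : G ⧸ S => t • q = q)).filter (fun q => ¬ val S φ t q = a)) (f := val S φ t)
      (fun d q hq => by
        rw [Finset.mem_filter, Finset.mem_filter] at hq ⊢
        refine ⟨⟨Finset.mem_univ _, hfix d d.2 q hq.1.2⟩, ?_⟩
        rw [hact, val_smul S φ (hTt d d.2) hq.1.2]
        exact hq.2)
      (fun d q hq => by
        rw [Finset.mem_filter, Finset.mem_filter] at hq
        rw [hact, val_smul S φ (hTt d d.2) hq.1.2])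
      (fun q hq => by
        rw [Finset.mem_filter, Finset.mem_filter] at hq
        exact hsq q hq.1.2)
    rw [h2]
    have h3 := prod_eq_one_or
      ((((Finset.univ.filter (fun q : G ⧸ S => t • q = q)).filter (fun q => ¬ val S φ t q = a))).filter
        (fun q => ∀ d : T, d • q = q)) (val S φ t) c
      (fun q hq => hsq q (Finset.mem_filter.1 (Finset.mem_filter.1 (Finset.mem_filter.1 hq).1).1).2)
      (fun q hq => by
        rw [Finset.mem_filter, Finset.mem_filter, Finset.mem_filter] at hq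
        obtain ⟨⟨⟨-, hq1⟩, hq2⟩, hq3⟩ := hq
        obtain ⟨g, rfl⟩ := QuotientGroup.mk_surjective q
        have h := (smul_mk_eq S t g).1 hq1
        have h4 := hex g (fun d hd => (smul_mk_eq S d g).1 (hq3 ⟨d, hd⟩)) h
        rw [val_mk S φ t g h] at hq2 ⊢
        exact h4.resolve_left hq2)
    rcases h3 with h3 | h3 <;> rw [h3]
    · rw [mul_one]; exact hat
    · intro h4
      apply hc
      have h5 : a ^ 2 = 1 := by
        rw [ha, ← map_pow]
        have h1 : (⟨t, tS⟩ : S) ^ 2 = 1 := Subtype.ext (by rw [Subgroup.coe_pow]; exact ht2)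
        rw [h1, map_one]
      rw [pow_two] at h5
      exact mul_left_cancel (h4.trans h5.symm)
  · intro k hk hk1 g h
    have h1 : k = 2 := by
      have h2 : k ∣ 2 := hk.trans (orderOf_dvd_of_pow_eq_one ht2)
      rcases (Nat.dvd_prime Nat.prime_two).1 h2 with h3 | h3
      · exact absurd h3 hk1
      · exact h3
    subst h1
    have h2 : (⟨g⁻¹ * t ^ 2 * g, h⟩ : S) = 1 := by
      apply Subtype.ext
      change g⁻¹ * t ^ 2 * g = 1
      rw [ht2]; group
    rw [h2, map_one]

end Cfsg.Agent.OddHalf.Out.Transfer
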