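import Cfsg.Agent.OddHalf.Out.FieldEnd

/-!
# Freeness of `s` and `t s` on one doubled root group by counting; change of the involution of a graded group

* `Lay.card_W`: `|W| = q²`; `Lay.free'`: `s` and `t s` act freely on `W`;
* `Grd.change`: if every degree is doubled for `t` and `v` acts freely on every `V i`, then `v` can replace `t`.
-/

set_option autoImplicit false

namespace Cfsg.Agent.OddHalf.Out.ZeroDiv

open Subgroup

variable {G : Type*} [Group G]

/-- `w ↦ w⁻¹ w^v` -/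
def bH (W : Subgroup G) (comm : ∀ a ∈ W, ∀ b ∈ W, a * b = b * a) {v : G} (vv : v * v = 1)
    (hv : ∀ w ∈ W, v * w * v ∈ W) : W →* W :=
  MonoidHom.mk' (fun w => ⟨(w : G)⁻¹ * (v * w * v), mul_mem (inv_mem w.2) (hv _ w.2)⟩) (by
    intro a b
    apply Subtype.ext
    show ((a : G) * b)⁻¹ * (v * (a * b) * v) = ((a : G)⁻¹ * (v * a * v)) * ((b : G)⁻¹ * (v * b * v))
    have h1 : v * ((a : G) * b) * v = (v * a * v) * (v * b * v) := by
      calc v * ((a : G) * b) * v = v * a * (v * v) * b * v := by rw [vv]; group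
        _ = _ := by group
    have h2 := comm _ (inv_mem b.2) _ (mul_mem (inv_mem a.2) (hv _ a.2))
    rw [h1]
    calc ((a : G) * b)⁻¹ * ((v * a * v) * (v * b * v)) = (b : G)⁻¹ * ((a : G)⁻¹ * (v * a * v)) * (v * b * v) := by
          group
      _ = _ := by rw [h2]; group)

theorem bH_apply (W : Subgroup G) (comm : ∀ a ∈ W, ∀ b ∈ W, a * b = b * a) {v : G} (vv : v * v = 1)
    (hv : ∀ w ∈ W, v * w * v ∈ W) (w : W) : (bH W comm vv hv w : G) = (w : G)⁻¹ * (v * w * v) := rfl

theorem card_ker [Finite G] (W : Subgroup G) (comm : ∀ a ∈ W, ∀ b ∈ W, a * b = b * a) {v : G} (vv : v * v = 1)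
    (hv : ∀ w ∈ W, v * w * v ∈ W) :
    Nat.card W = Nat.card (W ⊓ centralizer ({v} : Set G) : Subgroup G) * Nat.card (bH W comm vv hv).range := by
  have h1 := (bH W comm vv hv).ker.card_eq_card_quotient_mul_card_subgroup
  have h3 : Nat.card (W ⧸ (bH W comm vv hv).ker) = Nat.card (bH W comm vv hv).range :=
    Nat.card_congr (QuotientGroup.quotientKerEquivRange _).toEquiv
  have h4 : (bH W comm vv hv).ker.map W.subtype = W ⊓ centralizer ({v} : Set G) := by
    ext x
    constructor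
    · rintro ⟨w, hw, rfl⟩
      refine ⟨w.2, mem_centralizer_singleton_iff.2 ?_⟩
      have h5 : (w : G)⁻¹ * (v * w * v) = 1 := congrArg Subtype.val hw
      have h6 : v * (w : G) * v = w := (inv_mul_eq_one.1 h5).symm
      show (w : G) * v = v * w
      calc (w : G) * v = (v * w * v) * v := by rw [h6]
        _ = v * w * (v * v) := by group
        _ = v * w := by rw [vv, mul_one]
    · rintro ⟨hx, hxv⟩
      refine ⟨⟨x, hx⟩, ?_, rfl⟩
      apply Subtype.ext
      show x⁻¹ * (v * x * v) = 1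
      rw [← mem_centralizer_singleton_iff.1 hxv, mul_assoc, vv, mul_one, inv_mul_cancel]
  have h5 : Nat.card (bH W comm vv hv).ker = Nat.card (W ⊓ centralizer ({v} : Set G) : Subgroup G) := by
    rw [← h4]
    exact (Nat.card_congr ((bH W comm vv hv).ker.equivMapOfInjective W.subtype W.subtype_injective).toEquiv)
  rw [h1, h3, h5, mul_comm]

theorem range_le (W : Subgroup G) (comm : ∀ a ∈ W, ∀ b ∈ W, a * b = b * a) (sq : ∀ w ∈ W, w * w = 1) {v : G}
    (vv : v * v = 1) (hv : ∀ w ∈ W, v * w * v ∈ W) {x : W} (hx : x ∈ (bH W comm vv hv).range) :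
    (x : G) ∈ (W ⊓ centralizer ({v} : Set G) : Subgroup G) := by
  refine ⟨x.2, mem_centralizer_singleton_iff.2 ?_⟩
  obtain ⟨w, rfl⟩ := hx
  have hsq := sq _ (mul_mem (inv_mem w.2) (hv _ w.2))
  rw [bH_apply]
  set z := (w : G)⁻¹ * (v * w * v) with hz
  have vi : v⁻¹ = v := inv_eq_of_mul_eq_one_left vv
  have h1 : v * z * v = z⁻¹ := by
    rw [hz]
    calc v * ((w : G)⁻¹ * (v * w * v)) * v = v * (w : G)⁻¹ * v * w * (v * v) := by group
      _ = v⁻¹ * (w : G)⁻¹ * v⁻¹ * w := by rw [vv, vi, mul_one]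
      _ = _ := by group
  rw [inv_eq_of_mul_eq_one_left hsq] at h1
  calc z * v = (v * z * v) * v := by rw [h1]
    _ = v * z * (v * v) := by group
    _ = v * z := by rw [vv, mul_one]

theorem card_range_le [Finite G] (W : Subgroup G) (comm : ∀ a ∈ W, ∀ b ∈ W, a * b = b * a)
    (sq : ∀ w ∈ W, w * w = 1) {v : G} (vv : v * v = 1) (hv : ∀ w ∈ W, v * w * v ∈ W) :
    Nat.card (bH W comm vv hv).range ≤ Nat.card (W ⊓ centralizer ({v} : Set G) : Subgroup G) :=
  Nat.card_le_card_of_injective (fun x : (bH W comm vv hv).range =>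
    (⟨(x : W), range_le W comm sq vv hv x.2⟩ : (W ⊓ centralizer ({v} : Set G) : Subgroup G)))
    (fun _ _ hxy => Subtype.ext (Subtype.ext (Subtype.mk.inj hxy)))

/-- `|W| ≤ |C_W(v)|²` -/
theorem card_le_sq [Finite G] (W : Subgroup G) (comm : ∀ a ∈ W, ∀ b ∈ W, a * b = b * a)
    (sq : ∀ w ∈ W, w * w = 1) {v : G} (vv : v * v = 1) (hv : ∀ w ∈ W, v * w * v ∈ W) :
    Nat.card W ≤ Nat.card (W ⊓ centralizer ({v} : Set G) : Subgroup G) ^ 2 := by
  rw [card_ker W comm vv hv, pow_two]
  exact Nat.mul_le_mul_left _ (card_range_le W comm sq vv hv)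

/-- if `|C_W(v)|² ≤ |W|` then `v` acts freely on `W` -/
theorem free_of_card [Finite G] (W : Subgroup G) (comm : ∀ a ∈ W, ∀ b ∈ W, a * b = b * a)
    (sq : ∀ w ∈ W, w * w = 1) {v : G} (vv : v * v = 1) (hv : ∀ w ∈ W, v * w * v ∈ W)
    (hc : Nat.card (W ⊓ centralizer ({v} : Set G) : Subgroup G) ^ 2 ≤ Nat.card W) {x : G} (hx : x ∈ W)
    (hxv : v * x * v = x) : ∃ w ∈ W, w⁻¹ * (v * w * v) = x := by
  classical
  rw [card_ker W comm vv hv, pow_two] at hc
  have hpos : 0 < Nat.card (W ⊓ centralizer ({v} : Set G) : Subgroup G) := Nat.card_pos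
  have h1 := Nat.le_of_mul_le_mul_left hc hpos
  have h2 := card_range_le W comm sq vv hv
  have h3 : Function.Surjective (fun x : (bH W comm vv hv).range =>
      (⟨(x : W), range_le W comm sq vv hv x.2⟩ : (W ⊓ centralizer ({v} : Set G) : Subgroup G))) := by
    have hinj : Function.Injective (fun x : (bH W comm vv hv).range =>
      (⟨(x : W), range_le W comm sq vv hv x.2⟩ : (W ⊓ centralizer ({v} : Set G) : Subgroup G))) :=
      fun _ _ hxy => Subtype.ext (Subtype.ext (Subtype.mk.inj hxy))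
    exact ((Nat.bijective_iff_injective_and_card _).2 ⟨hinj, le_antisymm h2 h1⟩).2
  obtain ⟨y, hy⟩ := h3 ⟨x, hx, mem_centralizer_singleton_iff.2 (by
    calc x * v = (v * x * v) * v := by rw [hxv]
      _ = v * x * (v * v) := by group
      _ = v * x := by rw [vv, mul_one])⟩
  obtain ⟨w, hw⟩ := y.2
  refine ⟨w, w.2, ?_⟩
  rw [← bH_apply W comm vv hv, hw]
  exact congrArg Subtype.val hy

/-- if `v` acts freely then `|C_W(v)|² ≤ |W|` -/
theorem sq_card_le_of_free [Finite G] (W : Subgroup G) (comm : ∀ a ∈ W, ∀ b ∈ W, a * b = b * a) {v : G}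
    (vv : v * v = 1) (hv : ∀ w ∈ W, v * w * v ∈ W)
    (hfree : ∀ x ∈ W, v * x = x * v → ∃ w ∈ W, w⁻¹ * (v * w * v) = x) :
    Nat.card (W ⊓ centralizer ({v} : Set G) : Subgroup G) ^ 2 ≤ Nat.card W := by
  rw [card_ker W comm vv hv, pow_two]
  refine Nat.mul_le_mul_left _ ?_
  have h1 : ∀ x : (W ⊓ centralizer ({v} : Set G) : Subgroup G), ∃ w : W, (bH W comm vv hv w : G) = x := by
    rintro ⟨x, hx, hxv⟩
    obtain ⟨w, hw, e⟩ := hfree x hx (mem_centralizer_singleton_iff.1 hxv).symm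
    exact ⟨⟨w, hw⟩, e⟩
  choose f hf using h1
  refine Nat.card_le_card_of_injective (fun x => (⟨bH W comm vv hv (f x), ⟨_, rfl⟩⟩ :
    (bH W comm vv hv).range)) ?_
  intro x y hxy
  apply Subtype.ext
  rw [← hf x, ← hf y]
  exact congrArg (fun z : (bH W comm vv hv).range => ((z : W) : G)) hxy

variable {F : Type*} [Field F] {t s : G} {σ : F →+* F} {x : F → G} {W : Subgroup G}

theorem Lay.cent_eq (h : Lay t s σ x W) [Finite G] :
    Nat.card (W ⊓ centralizer ({t} : Set G) : Subgroup G) = Nat.card F := by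
  symm
  apply Nat.card_congr
  refine Equiv.ofBijective (fun a => (⟨x a, h.mem a, mem_centralizer_singleton_iff.2 (h.tx a).symm⟩ :
    (W ⊓ centralizer ({t} : Set G) : Subgroup G))) ⟨?_, ?_⟩
  · intro a b hab
    exact h.xinj (Subtype.mk.inj hab)
  · rintro ⟨w, hw, hwt⟩
    obtain ⟨a, rfl⟩ := h.cent w hw (mem_centralizer_singleton_iff.1 hwt).symm
    exact ⟨a, rfl⟩

/-- `|W| = q²` -/
theorem Lay.card_W [Finite G] (h : Lay t s σ x W) (tt : t * t = 1) : Nat.card W = Nat.card F ^ 2 := by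
  have comm : ∀ a ∈ W, ∀ b ∈ W, a * b = b * a := fun a ha b hb => h.comm ha hb
  apply le_antisymm
  · rw [← h.cent_eq]
    exact card_le_sq W comm h.sq tt h.conj_t
  · rw [card_ker W comm tt h.conj_t, h.cent_eq, pow_two]
    refine Nat.mul_le_mul_left _ ?_
    have : Finite (bH W comm tt h.conj_t).range := inferInstance
    choose w hw hb using h.surj
    refine Nat.card_le_card_of_injective (fun a : F =>
      (⟨bH W comm tt h.conj_t ⟨w a, hw a⟩, ⟨_, rfl⟩⟩ : (bH W comm tt h.conj_t).range)) ?_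
    intro a b hab
    have h1 : (w a)⁻¹ * (t * w a * t) = (w b)⁻¹ * (t * w b * t) :=
      congrArg (fun z : (bH W comm tt h.conj_t).range => ((z : W) : G)) hab
    rw [hb, hb] at h1
    exact h.xinj h1

/-- **`s` and `t s` act freely on `W`.** -/
theorem Lay.free' [Finite G] [Finite F] [CharP F 2] (h : Lay t s σ x W) (tt : t * t = 1) (ss : s * s = 1)
    (st : s * t = t * s) (h2 : ∀ a, σ (σ a) = a) {w0 : F} (hw0 : w0 + σ w0 = 1) {v : G} (hv : v = s ∨ v = t * s)
    {y : G} (hy : y ∈ W) (hvy : v * y * v = y) : ∃ w ∈ W, w⁻¹ * (v * w * v) = y := by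
  have si : s⁻¹ = s := inv_eq_of_mul_eq_one_left ss
  have vv : v * v = 1 := by
    rcases hv with rfl | rfl
    · exact ss
    · calc t * s * (t * s) = t * (s * t) * s := by group
        _ = (t * t) * (s * s) := by rw [st]; group
        _ = 1 := by rw [tt, ss, one_mul]
  have hvW : ∀ w ∈ W, v * w * v ∈ W := by
    intro w hw
    rcases hv with rfl | rfl
    · have := h.sW w hw
      rwa [si] at this
    · have e : t * s * w * (t * s) = t * (s * w * s⁻¹) * t := by
        calc t * s * w * (t * s) = t * s * w * (s * t) := by rw [st]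
          _ = t * (s * w * s) * t := by group
          _ = _ := by rw [si]
      rw [e]
      exact h.conj_t _ (h.sW w hw)
  refine free_of_card W (fun a ha b hb => h.comm ha hb) h.sq vv hvW ?_ hy hvy
  rw [h.card_W tt]
  exact Nat.pow_le_pow_left (FieldEnd.Lay.card_fix_le h tt ss st h2 hw0 hv) 2

end Cfsg.Agent.OddHalf.Out.ZeroDiv

namespace Cfsg.Agent.OddHalf.F4.EndO

open Subgroup

variable {G : Type*} [Group G] {t : G} {V X : ℕ → Subgroup G} {lg : ℕ → Prop} {R n : ℕ}

/-- change of the involution: `v` acts freely on every `V i` -/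
theorem Grd.change (h : Grd t V X lg R n) {v : G} (vv : v * v = 1) (hn : ∀ i, ∀ w ∈ V i, v * w * v ∈ V i)
    (hfree : ∀ i, ∀ x ∈ V i, v * x * v = x → ∃ w ∈ V i, w⁻¹ * (v * w * v) = x) :
    Grd v V (fun i => V i ⊓ centralizer ({v} : Set G)) (fun _ => False) 0 n where
  tt := vv
  conj := hn
  sq := h.sq
  X_le := fun i => inf_le_left
  X_fix := fun i x hx => by
    rw [← mem_centralizer_singleton_iff.1 hx.2, mul_assoc, vv, mul_one]
  fix := fun i x hx hf => ⟨hx, mem_centralizer_singleton_iff.2 (by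
    calc x * v = (v * x * v) * v := by rw [hf]
      _ = v * x * (v * v) := by group
      _ = v * x := by rw [vv, mul_one])⟩
  free := fun i _ x hx => hfree i x hx.1 (by
    rw [← mem_centralizer_singleton_iff.1 hx.2, mul_assoc, vv, mul_one])
  lgV := fun i hi => hi.elim
  comm := h.comm
  lcomm := fun i j _ _ _ hi => hi.elim
  top := h.top
  indep := fun i hi => by
    rw [eq_bot_iff]
    rintro x ⟨hx, hx'⟩
    have h1 : x ∈ N V (i + 1) := by
      have : N (fun i => V i ⊓ centralizer ({v} : Set G)) (i + 1) ≤ N V (i + 1) :=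
        N_le fun j hj => (inf_le_left).trans (le_N V hj)
      exact this hx'
    exact Subgroup.mem_bot.2 (h.ind hi hx.1 h1)
  lR := fun i hi => hi.elim

/-- conjugacy of the involutions of `v N` -/
theorem Grd.conj_of_change (h : Grd t V X lg R n) {v : G} (vv : v * v = 1) (hn : ∀ i, ∀ w ∈ V i, v * w * v ∈ V i)
    (hfree : ∀ i, ∀ x ∈ V i, v * x * v = x → ∃ w ∈ V i, w⁻¹ * (v * w * v) = x) {u : G} (hu : u ∈ N V 1)
    (hi : (v * u) * (v * u) = 1) : ∃ k ∈ N V 1, v * u = k * v * k⁻¹ := by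
  obtain ⟨w, hw, l, hl, he⟩ := (h.change vv hn hfree).exists_conj hu hi
  have hl1 : l = 1 := by
    have : Lg (fun i => V i ⊓ centralizer ({v} : Set G)) (fun _ : ℕ => False) 1 ≤ ⊥ :=
      Lg_le fun i _ hi => hi.elim
    exact Subgroup.mem_bot.1 (this hl)
  refine ⟨w, hw, ?_⟩
  rw [hl1, mul_one] at he
  calc v * u = w * (w⁻¹ * (v * u) * w) * w⁻¹ := by group
    _ = w * v * w⁻¹ := by rw [he]

end Cfsg.Agent.OddHalf.F4.EndO
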