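import Mathlib
import Cfsg.Agent.OddHalf.SpN.FreeSer
import Cfsg.Agent.OddHalf.F4.EndOut

/-!
# END with an outer 2-part, when the outer involutions act freely on the factors of `U*`

Frame `Out.Exclude.Fr` (`T` Sylow in `C_G(t)`, `U* = Us` a 2-group normalised by `T`, `U = C_{U*}(t)`, `T / U` abelian,
`S = T U*`).  If every involution `u ∈ S` outside `U*` and `t U*` is free on `U*` (`FreeSer u U*`, so that
`|C_{U*}(u)|² = |U*|` and `C_S(u)` covers `S / U*`), `|U|² ≠ |U*|`, and the involutions of `t U*` which matter are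
conjugate to `t`, then `t` is not in the commutator subgroup of `G`.

`of_freeC`: the hypothesis on the outer involutions in the form needed: all `d ∈ T` with `d² ∈ U` lie in
`⟨t, s⟩ U`, and `U*` has a series with factors centralised by `⟨t⟩ U*` on which `s` acts freely (`FreeC`).
-/

set_option autoImplicit false

namespace Cfsg.Agent.OddHalf.Out.FreeEnd

open Subgroup Exclude SpN

variable {G : Type*} [Group G] {t : G} {T U Us : Subgroup G}

/-- `|T| |U*| = |S| |U|` -/
theorem card_S [Finite G] (F : Fr t T U Us) : Nat.card F.S * Nat.card U = Nat.card Us * Nat.card T := by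
  have hn : F.S ≤ normalizer (Us : Set G) := by
    intro x hx
    rw [mem_normalizer_iff]
    intro y
    constructor
    · exact fun hy => F.S_norm hx hy
    · intro hy
      have := F.S_norm (inv_mem hx) hy
      have e : x⁻¹ * (x * y * x⁻¹) * x⁻¹⁻¹ = y := by group
      rwa [e] at this
  have h1 : F.S = Us ⊔ T := by
    apply le_antisymm
    · rintro _ ⟨d, hd, w, hw, rfl⟩
      exact mul_mem (mem_sup_right hd) (mem_sup_left hw)
    · exact sup_le F.Us_le F.T_le
  have h2 := card_mul_card F.Us_le F.T_le hn h1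
  have h5 : Us ⊓ T = U := by
    ext w
    exact ⟨fun hw => (F.hU w).2 ⟨hw.1, F.Tc w hw.2⟩, fun hw => ⟨F.le hw, F.UT hw⟩⟩
  rwa [h5] at h2

/-- `|C_S(g⁻¹ t g)| = |T|` if `g⁻¹ T g ≤ S` -/
theorem card_cent [Finite G] (F : Fr t T U Us) {g : G} (hg : ∀ d ∈ T, g⁻¹ * d * g ∈ F.S) :
    Nat.card (F.S ⊓ centralizer ({g⁻¹ * t * g} : Set G) : Subgroup G) = Nat.card T := by
  apply le_antisymm
  · refine Nat.card_le_card_of_injective (fun x => (⟨g * x * g⁻¹,
      F.conj_mem hg x.2.1 (mem_centralizer_singleton_iff.1 x.2.2)⟩ : T)) ?_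
    intro a b hab
    have h2 : g * (a : G) * g⁻¹ = g * b * g⁻¹ := congrArg Subtype.val hab
    exact Subtype.ext (mul_left_cancel (mul_right_cancel h2))
  · refine Nat.card_le_card_of_injective
      (fun d : T => (⟨g⁻¹ * d * g, hg d d.2, mem_centralizer_singleton_iff.2 ?_⟩ :
        (F.S ⊓ centralizer ({g⁻¹ * t * g} : Set G) : Subgroup G))) ?_
    · calc g⁻¹ * d * g * (g⁻¹ * t * g) = g⁻¹ * (d * t) * g := by group
        _ = g⁻¹ * (t * d) * g := by rw [F.Tc d d.2]
        _ = g⁻¹ * t * g * (g⁻¹ * d * g) := by group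
    · intro a b hab
      have h2 : g⁻¹ * (a : G) * g = g⁻¹ * b * g := congrArg Subtype.val hab
      exact Subtype.ext (mul_left_cancel (mul_right_cancel h2))

/-- a conjugate `g⁻¹ t g` of `t` with `g⁻¹ T g ≤ S` is not free on `U*` -/
theorem card_of_free [Finite G] (F : Fr t T U Us) {g : G} (hg : ∀ d ∈ T, g⁻¹ * d * g ∈ F.S)
    (hF : FreeSer (g⁻¹ * t * g) Us) : Nat.card U ^ 2 = Nat.card Us := by
  have hn : F.S ≤ normalizer (Us : Set G) := by
    intro x hx
    rw [mem_normalizer_iff]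
    intro y
    constructor
    · exact fun hy => F.S_norm hx hy
    · intro hy
      have := F.S_norm (inv_mem hx) hy
      have e : x⁻¹ * (x * y * x⁻¹) * x⁻¹⁻¹ = y := by group
      rwa [e] at this
  have huu : g⁻¹ * t * g * (g⁻¹ * t * g) = 1 := by
    calc g⁻¹ * t * g * (g⁻¹ * t * g) = g⁻¹ * (t * t) * g := by group
      _ = 1 := by rw [F.tt]; group
  have c1 := hF.card_cover huu F.Us_le hn (fun x hx => by
    have h1 := F.comm_mem (inv_mem hx) (hg t F.tT)
    have e : x⁻¹ * (g⁻¹ * t * g) * x⁻¹⁻¹ * (g⁻¹ * t * g)⁻¹ = x⁻¹ * (g⁻¹ * t * g * x * (g⁻¹ * t * g)⁻¹) := by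
      group
    rwa [e] at h1)
  have c2 := hF.card_sq huu
  have c3 := card_cent F hg
  have c4 := card_S F
  rw [c3, mul_comm, ← c4] at c1
  have h0 : 0 < Nat.card F.S := Nat.card_pos
  rw [Nat.eq_of_mul_eq_mul_left h0 c1]
  exact c2

/-- **The end.** -/
theorem not_mem_commutator [Finite G] (F : Fr t T U Us) (htU : t ∉ Us)
    (hcl : ∀ u : G, u * u = 1 → t * u ∈ Us → IsConj t u →
      Nat.card U ≤ Nat.card (Us ⊓ centralizer ({u} : Set G) : Subgroup G) → ∃ k ∈ Us, u = k * t * k⁻¹)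
    (hfree : ∀ d ∈ T, ∀ w ∈ Us, d * w * (d * w) = 1 → d ∉ U → t * d ∉ U → d * d ∈ U → FreeSer (d * w) Us)
    (hne : Nat.card U ^ 2 ≠ Nat.card Us) : t ∉ _root_.commutator G := by
  have huu : ∀ g : G, g⁻¹ * t * g * (g⁻¹ * t * g) = 1 := by
    intro g
    calc g⁻¹ * t * g * (g⁻¹ * t * g) = g⁻¹ * (t * t) * g := by group
      _ = 1 := by rw [F.tt]; group
  refine F4.EndOut.not_mem_commutator F htU ?_ 1 (one_mem _) (by rwa [mul_one]) ?_
  · intro g hg htu
    obtain ⟨k, hk, e⟩ := hcl (g⁻¹ * t * g) (huu g) htu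
      (isConj_iff.2 ⟨g⁻¹, by group⟩) (card_le F rfl hg)
    exact ⟨k, F.Us_le hk, e⟩
  · intro g hg
    by_cases h1 : t * (g⁻¹ * t * g) ∈ Us
    · exact Or.inl h1
    by_cases h2 : g⁻¹ * t * g ∈ Us
    · exact Or.inr (Or.inl h2)
    exfalso
    obtain ⟨d, hd, w, hw, e⟩ := F.mem_S.1 (hg t F.tT)
    have hdU : d ∉ U := by
      intro h3
      apply h2
      rw [e]
      exact mul_mem (F.le h3) hw
    have htdU : t * d ∉ U := by
      intro h3
      apply h1
      rw [e, ← mul_assoc]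
      exact mul_mem (F.le h3) hw
    have hdd : d * d ∈ U := by
      refine (F.hU _).2 ⟨?_, F.Tc _ (mul_mem hd hd)⟩
      have h3 : d * w * (d * w) = 1 := by rw [← e]; exact huu g
      have h4 : d * d = (d * w * d⁻¹)⁻¹ * (d * w * (d * w)) * w⁻¹ := by group
      rw [h4, h3, mul_one]
      exact mul_mem (inv_mem (F.norm d hd w hw)) (inv_mem hw)
    apply hne
    apply card_of_free F hg
    rw [e]
    refine hfree d hd w hw ?_ hdU htdU hdd
    rw [← e]
    exact huu g

/-- the hypothesis on the outer involutions from a free series for `s` with factors centralised by `⟨t⟩ U*` -/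
theorem free_of_freeC {s : G} (hd : ∀ d ∈ T, d * d ∈ U → d ∉ U → t * d ∉ U → s * d ∈ U ∨ t * s * d ∈ U)
    (hss : s * s = 1) (htt : t * t = 1) (hUs : U ≤ Us) {Q : Subgroup G} (htQ : t ∈ Q)
    (hUQ : Us ≤ Q) (hF : FreeC s Q Us) :
    ∀ d ∈ T, ∀ w ∈ Us, d * w * (d * w) = 1 → d ∉ U → t * d ∉ U → d * d ∈ U → FreeSer (d * w) Us := by
  intro d hdT w hw _ h1 h2 h3
  rcases hd d hdT h3 h1 h2 with h | h
  · have e : d * w = s * (s * d * w) := by
      rw [← mul_assoc, ← mul_assoc, hss, one_mul]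
    rw [e]
    exact hF.free (hUQ (mul_mem (hUs h) hw))
  · have e : d * w = s * (t * (t * s * d * w)) := by
      have : s * (t * (t * s * d * w)) = s * (t * t) * s * d * w := by group
      rw [this, htt, mul_one, hss, one_mul]
    rw [e]
    exact hF.free (mul_mem htQ (hUQ (mul_mem (hUs h) hw)))

/-- **The end**, with a free series -/
theorem end_freeC [Finite G] (F : Fr t T U Us) (htU : t ∉ Us) {s : G} (hss : s * s = 1)
    (hd : ∀ d ∈ T, d * d ∈ U → d ∉ U → t * d ∉ U → s * d ∈ U ∨ t * s * d ∈ U)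
    {Q : Subgroup G} (htQ : t ∈ Q) (hUQ : Us ≤ Q) (hF : FreeC s Q Us)
    (hcl : ∀ u : G, u * u = 1 → t * u ∈ Us → IsConj t u →
      Nat.card U ≤ Nat.card (Us ⊓ centralizer ({u} : Set G) : Subgroup G) → ∃ k ∈ Us, u = k * t * k⁻¹)
    (hne : Nat.card U ^ 2 ≠ Nat.card Us) : t ∉ _root_.commutator G :=
  not_mem_commutator F htU hcl (free_of_freeC hd hss F.tt F.le htQ hUQ hF) hne

end Cfsg.Agent.OddHalf.Out.FreeEnd
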