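import Cfsg.Agent.Doubling.Growth

/-!
# Complements to `Doubling/Growth.lean`

Directness of the doubled groups, the same doubled groups for another involution `v`, `W` is a 2-group, the number of
fixed points of a free involution.
-/

set_option autoImplicit false

namespace Cfsg.Agent.OddHalf.Out.Grow

open Cfsg.Agent.Doubling Cfsg.Agent.Doubling.Growth Subgroup

variable {G : Type*} [Group G] {t : G} {V X : ℕ → Subgroup G} {n : ℕ}

theorem comm_of_sq {A : Subgroup G} (h : ∀ v ∈ A, v * v = 1) {a b : G} (ha : a ∈ A) (hb : b ∈ A) :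
    a * b = b * a := by
  have e1 := h (a * b) (mul_mem ha hb)
  have e2 := h a ha
  have e3 := h b hb
  calc a * b = a * ((a * b) * (a * b)) * b := by rw [e1, mul_one]
    _ = (a * a) * (b * a) * (b * b) := by group
    _ = b * a := by rw [e2, e3, one_mul, mul_one]

/-- The doubled groups are independent. -/
theorem disj (h : Growth.Dbl t V X n) {k : ℕ} (hk : k < n) : V k ⊓ Growth.W V k = ⊥ := by
  rw [eq_bot_iff]
  rintro v ⟨hv, hw⟩
  rw [mem_bot]
  have hX : ∀ v ∈ V k, v ∈ Growth.W V k → t * v * t = v → v = 1 := by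
    intro v hv hw hf
    have h3 : v ∈ X k ⊓ Growth.W X k := ⟨h.fix k hk v hv hf, (h.mem_U_iff hk.le).2 ⟨hw, hf⟩⟩
    rw [h.indep k hk] at h3
    exact mem_bot.1 h3
  have hv' := h.conj k hk v hv
  have hw' := h.conj_W hk.le hw
  have e : v * (t * v * t) = 1 := by
    apply hX _ (mul_mem hv hv') (mul_mem hw hw')
    rw [h.conj_mul, h.conj_conj]
    exact comm_of_sq (h.sq k hk) hv' hv
  have e1 : t * v * t = v := by
    have e2 := h.sq k hk v hv
    exact mul_left_cancel (e.trans e2.symm)
  exact hX v hv hw e1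

/-- The same doubled groups for another involution. -/
theorem change (h : Growth.Dbl t V X n) {v : G} (vv : v * v = 1) (conj : ∀ i < n, ∀ w ∈ V i, v * w * v ∈ V i)
    (free : ∀ i < n, ∀ w ∈ V i, v * w * v = w → ∃ c ∈ V i, w = v * c * v * c⁻¹) :
    Growth.Dbl v V (fun i => V i ⊓ centralizer ({v} : Set G)) n := by
  have key : ∀ w : G, v * w * v = w ↔ w * v = v * w := by
    intro w
    constructor
    · intro h1
      calc w * v = v * w * v * v := by rw [h1]
        _ = v * w * (v * v) := by group
        _ = v * w := by rw [vv, mul_one]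
    · intro h1
      rw [mul_assoc, h1, ← mul_assoc, vv, one_mul]
  exact {
    tt := vv
    conj := conj
    sq := h.sq
    fix := fun i hi w hw h1 => ⟨hw, mem_centralizer_singleton_iff.2 ((key w).1 h1)⟩
    X_le := fun i hi => inf_le_left
    X_fix := fun i hi w hw => (key w).2 (mem_centralizer_singleton_iff.1 hw.2)
    free := fun i hi w hw => free i hi w hw.1 ((key w).2 (mem_centralizer_singleton_iff.1 hw.2))
    comm := h.comm
    indep := fun k hk => by
      rw [eq_bot_iff, ← disj h hk]
      refine inf_le_inf inf_le_left ?_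
      exact iSup₂_le fun i hi => le_trans inf_le_left (le_W V hi) }

/-- `W` is a 2-group. -/
theorem isPGroup (h : Growth.Dbl t V X n) {k : ℕ} (hk : k ≤ n) : IsPGroup 2 (Growth.W V k) := by
  induction k with
  | zero =>
    rw [W_zero]
    exact IsPGroup.of_bot
  | succ k ih =>
    rw [W_succ, sup_comm]
    have h1 : IsPGroup 2 (V k) := by
      intro v
      refine ⟨1, ?_⟩
      apply Subtype.ext
      change (v : G) ^ (2 ^ 1) = 1
      rw [pow_one, pow_two]
      exact h.sq k hk v v.2
    refine IsPGroup.to_sup_of_normal_right' h1 (ih (Nat.le_of_succ_le hk)) ?_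
    intro v hv
    rw [mem_normalizer_iff]
    intro w
    refine ⟨fun hw => h.normal le_rfl hk hv hw, fun hw => ?_⟩
    have h2 := h.normal le_rfl hk (inv_mem hv) hw
    have h3 : v⁻¹ * (v * w * v⁻¹) * v⁻¹⁻¹ = w := by group
    rwa [h3] at h2

/-- The fixed points of a free involution. -/
theorem card_eq_sq [Finite G] {A : Subgroup G} (hA : ∀ a ∈ A, ∀ b ∈ A, a * b = b * a) {v : G} (vv : v * v = 1)
    (conj : ∀ w ∈ A, v * w * v ∈ A) (free : ∀ w ∈ A, v * w * v = w → ∃ c ∈ A, w = v * c * v * c⁻¹)
    (sq : ∀ w ∈ A, w * w = 1) :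
    Nat.card A = Nat.card (A ⊓ centralizer ({v} : Set G) : Subgroup G) ^ 2 := by
  have key : ∀ w : G, v * w * v = w ↔ w * v = v * w := by
    intro w
    constructor
    · intro h1
      calc w * v = v * w * v * v := by rw [h1]
        _ = v * w * (v * v) := by group
        _ = v * w := by rw [vv, mul_one]
    · intro h1
      rw [mul_assoc, h1, ← mul_assoc, vv, one_mul]
  let f : A →* A :=
    { toFun := fun w => ⟨v * w * v * (w : G)⁻¹, mul_mem (conj w w.2) (inv_mem w.2)⟩
      map_one' := Subtype.ext (by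
        change v * 1 * v * 1⁻¹ = 1
        rw [mul_one, vv]; group)
      map_mul' := fun a b => Subtype.ext (by
        change v * ((a : G) * b) * v * ((a : G) * b)⁻¹ = v * a * v * (a : G)⁻¹ * (v * b * v * (b : G)⁻¹)
        have h1 : v * ((a : G) * b) * v = (v * a * v) * (v * b * v) := by
          calc v * ((a : G) * b) * v = v * a * (v * v) * b * v := by rw [vv]; group
            _ = _ := by group
        have h2 := hA _ (inv_mem a.2) _ (mul_mem (conj b b.2) (inv_mem b.2))
        rw [h1, mul_inv_rev]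
        calc v * a * v * (v * b * v) * ((b : G)⁻¹ * (a : G)⁻¹)
            = (v * a * v) * ((v * b * v * (b : G)⁻¹) * (a : G)⁻¹) := by group
          _ = (v * a * v) * ((a : G)⁻¹ * (v * b * v * (b : G)⁻¹)) := by rw [h2]
          _ = _ := by group) }
  have hf : ∀ w : A, ((f w : A) : G) = v * w * v * (w : G)⁻¹ := fun w => rfl
  have hker : Nat.card f.ker = Nat.card (A ⊓ centralizer ({v} : Set G) : Subgroup G) := by
    refine Nat.card_congr ⟨fun w => ⟨w.1.1, w.1.2, mem_centralizer_singleton_iff.2 ?_⟩,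
      fun w => ⟨⟨w.1, w.2.1⟩, ?_⟩, fun w => rfl, fun w => rfl⟩
    · have h1 := congrArg Subtype.val (MonoidHom.mem_ker.1 w.2)
      rw [hf] at h1
      exact (key _).1 (mul_inv_eq_one.1 h1)
    · rw [MonoidHom.mem_ker]
      apply Subtype.ext
      rw [hf]
      exact mul_inv_eq_one.2 ((key _).2 (mem_centralizer_singleton_iff.1 w.2.2))
  have hrange : Nat.card f.range = Nat.card (A ⊓ centralizer ({v} : Set G) : Subgroup G) := by
    refine Nat.card_congr ⟨fun w => ⟨w.1.1, w.1.2, mem_centralizer_singleton_iff.2 ?_⟩,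
      fun w => ⟨⟨w.1, w.2.1⟩, ?_⟩, fun w => rfl, fun w => rfl⟩
    · obtain ⟨c, hc⟩ := w.2
      have h1 : (w.1 : G) = v * c * v * (c : G)⁻¹ := by rw [← hc, hf]
      rw [h1, ← key]
      have h2 := sq _ c.2
      have h3 := sq _ (conj _ c.2)
      have ci : (c : G)⁻¹ = c := inv_eq_of_mul_eq_one_left h2
      rw [ci]
      have h4 := hA _ c.2 _ (conj _ c.2)
      calc v * (v * c * v * (c : G)) * v = (v * v) * c * (v * c * v) := by group
        _ = c * (v * c * v) := by rw [vv, one_mul]
        _ = v * c * v * c := h4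
    · obtain ⟨c, hc, hwc⟩ := free w.1 w.2.1 ((key _).2 (mem_centralizer_singleton_iff.1 w.2.2))
      exact ⟨⟨c, hc⟩, Subtype.ext hwc.symm⟩
  have h1 : Nat.card f.ker * f.ker.index = Nat.card A := card_mul_index _
  rw [index_ker, hrange, hker] at h1
  rw [← h1, pow_two]

end Cfsg.Agent.OddHalf.Out.Grow
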