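import Cfsg.Agent.OddHalf.Out.Graph
import Cfsg.Agent.OddHalf.Out.Grow
import Cfsg.Agent.OddHalf.F4.EndOut

/-!
# The end for a group with an outer 2-part, from one excluded coset (helper84)

* `NoConj F v`: no conjugate `g⁻¹ t g` with `g⁻¹ T g ≤ S` lies in `v U*`;
* `end_of`: `t ∉ [G, G]` if all involutions of `t U*` are conjugate to `t` and (`T / U` has only one involution or one of the
  two other cosets is excluded);
* `conj_pair`, `card_pair`: involutions interchanging the terms of pairs of a growth sequence;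
* `excl_graph`: the exclusion for graph type.
-/

set_option autoImplicit false

namespace Cfsg.Agent.OddHalf.Out.Excl

open Subgroup Exclude Cfsg.Agent.Doubling

variable {G : Type*} [Group G] {t : G} {T U Us : Subgroup G}

/-- No conjugate `g⁻¹ t g` of `t` with `g⁻¹ T g ≤ S` lies in `v U*`. -/
def NoConj (F : Fr t T U Us) (v : G) : Prop := ∀ g : G, (∀ d ∈ T, g⁻¹ * d * g ∈ F.S) → v⁻¹ * (g⁻¹ * t * g) ∉ Us

theorem conj_inv_sq (tt : t * t = 1) (g : G) : g⁻¹ * t * g * (g⁻¹ * t * g) = 1 := by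
  calc g⁻¹ * t * g * (g⁻¹ * t * g) = g⁻¹ * (t * t) * g := by group
    _ = 1 := by rw [tt]; group

theorem excl_of (F : Fr t T U Us) {v : G}
    (conj : ∀ w ∈ Us, v * w * (v * w) = 1 → ∃ a ∈ Us, v * w = a * v * a⁻¹)
    (h : ∀ g : G, (∀ d ∈ T, g⁻¹ * d * g ∈ F.S) → g⁻¹ * t * g = v → False) : NoConj F v := by
  intro g hg hw
  have e1 : v * (v⁻¹ * (g⁻¹ * t * g)) = g⁻¹ * t * g := by group
  obtain ⟨a, ha, he⟩ := conj _ hw (by rw [e1]; exact conj_inv_sq F.tt g)
  rw [e1] at he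
  refine h (g * a) (fun d hd => ?_) ?_
  · have h1 := mul_mem (mul_mem (inv_mem (F.Us_le ha)) (hg d hd)) (F.Us_le ha)
    have h2 : a⁻¹ * (g⁻¹ * d * g) * a = (g * a)⁻¹ * d * (g * a) := by group
    rwa [h2] at h1
  · calc (g * a)⁻¹ * t * (g * a) = a⁻¹ * (g⁻¹ * t * g) * a := by group
      _ = v := by rw [he]; group

theorem mem_U (F : Fr t T U Us) {d : G} (hd : d ∈ T) (hd' : d ∈ Us) : d ∈ U := (F.hU d).2 ⟨hd', F.Tc d hd⟩

/-- **The end.** -/
theorem end_of [Finite G] (F : Fr t T U Us) (htU : t ∉ Us)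
    (conj : ∀ w ∈ Us, t * w * (t * w) = 1 → ∃ a ∈ Us, t * w = a * t * a⁻¹)
    (alt : (∀ d ∈ T, d * d ∈ U → d ∈ U ∨ t * d ∈ U) ∨ ∃ s ∈ T, s ∉ U ∧ t * s ∉ U ∧
      (∀ d ∈ T, d * d ∈ U → d ∈ U ∨ t * d ∈ U ∨ s⁻¹ * d ∈ U ∨ (t * s)⁻¹ * d ∈ U) ∧
      ∃ v, (v = s ∨ v = t * s) ∧ NoConj F v) : t ∉ _root_.commutator G := by
  have ti : t⁻¹ = t := inv_eq_of_mul_eq_one_left F.tt
  have hcl : ∀ g : G, (∀ d ∈ T, g⁻¹ * d * g ∈ F.S) → t * (g⁻¹ * t * g) ∈ Us →
      ∃ k ∈ F.S, g⁻¹ * t * g = k * t * k⁻¹ := by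
    intro g _ hu
    have e1 : t * (t * (g⁻¹ * t * g)) = g⁻¹ * t * g := by rw [← mul_assoc, F.tt, one_mul]
    obtain ⟨a, ha, he⟩ := conj _ hu (by rw [e1]; exact conj_inv_sq F.tt g)
    rw [e1] at he
    exact ⟨a, F.Us_le ha, he⟩
  have hsq : ∀ g : G, (∀ d ∈ T, g⁻¹ * d * g ∈ F.S) → ∃ d ∈ T, ∃ w ∈ Us, g⁻¹ * t * g = d * w ∧ d * d ∈ U := by
    intro g hg
    obtain ⟨d, hd, w, hw, he⟩ := F.mem_S.1 (hg t F.tT)
    refine ⟨d, hd, w, hw, he, mem_U F (mul_mem hd hd) ?_⟩
    have h1 := conj_inv_sq F.tt g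
    rw [he] at h1
    have h2 : d * d = (d * w * d⁻¹)⁻¹ * (d * w * (d * w)) * w⁻¹ := by group
    rw [h2, h1, mul_one]
    exact mul_mem (inv_mem (F.norm d hd w hw)) (inv_mem hw)
  rcases alt with alt | ⟨s, hs, hs1, hs2, alt, v, hv, hex⟩
  · refine F4.EndOut.not_mem_commutator F htU hcl 1 (one_mem _) (by rwa [mul_one]) ?_
    intro g hg
    obtain ⟨d, hd, w, hw, he, hdd⟩ := hsq g hg
    rw [he]
    rcases alt d hd hdd with h1 | h1
    · exact Or.inr (Or.inl (mul_mem (F.le h1) hw))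
    · left
      rw [← mul_assoc]
      exact mul_mem (F.le h1) hw
  · have hs1' : s ∉ Us := fun h => hs1 (mem_U F hs h)
    have hs2' : t * s ∉ Us := fun h => hs2 (mem_U F (mul_mem F.tT hs) h)
    have main : ∀ c, (c = s ∨ c = t * s) → (∀ x, (x = s ∨ x = t * s) → x = v ∨ x = c) →
        t ∉ _root_.commutator G := by
      intro c hc hvc
      refine F4.EndOut.not_mem_commutator F htU hcl c ?_ ?_ ?_
      · rcases hc with rfl | rfl
        · exact F.T_le hs
        · exact F.T_le (mul_mem F.tT hs)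
      · rcases hc with rfl | rfl
        · exact hs2'
        · rw [← mul_assoc, F.tt, one_mul]; exact hs1'
      · intro g hg
        obtain ⟨d, hd, w, hw, he, hdd⟩ := hsq g hg
        have key : ∀ x, (x = s ∨ x = t * s) → x⁻¹ * d ∈ U →
            t * (g⁻¹ * t * g) ∈ Us ∨ g⁻¹ * t * g ∈ Us ∨ c⁻¹ * (g⁻¹ * t * g) ∈ Us := by
          intro x hx hxd
          have h1 : x⁻¹ * (g⁻¹ * t * g) ∈ Us := by
            rw [he, ← mul_assoc]
            exact mul_mem (F.le hxd) hw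
          rcases hvc x hx with rfl | rfl
          · exact absurd h1 (hex g hg)
          · exact Or.inr (Or.inr h1)
        rcases alt d hd hdd with h1 | h1 | h1 | h1
        · right; left
          rw [he]
          exact mul_mem (F.le h1) hw
        · left
          rw [he, ← mul_assoc]
          exact mul_mem (F.le h1) hw
        · exact key s (Or.inl rfl) h1
        · exact key (t * s) (Or.inr rfl) h1
    rcases hv with rfl | rfl
    · exact main (t * v) (Or.inr rfl) (fun x hx => hx)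
    · exact main s (Or.inl rfl) (fun x hx => hx.symm)

/-- The alternative for a subgroup `D` of `T` with `T = D U`, `D ∩ U = 1`. -/
theorem alt_of (F : Fr t T U Us) (D : Subgroup G) (hDT : D ≤ T)
    (hTD : ∀ d ∈ T, ∃ e ∈ D, ∃ u ∈ U, d = e * u) (hDU : ∀ e ∈ D, e ∈ U → e = 1) (htD : t ∈ D)
    (hone : ∀ e ∈ D, ∀ f ∈ D, e * e = 1 → f * f = 1 → e ≠ 1 → e ≠ t → f ≠ 1 → f ≠ t → f = e ∨ f = t * e)
    (hex : ∀ s ∈ D, s * s = 1 → s ≠ 1 → s ≠ t → ∃ v, (v = s ∨ v = t * s) ∧ NoConj F v) :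
    (∀ d ∈ T, d * d ∈ U → d ∈ U ∨ t * d ∈ U) ∨ ∃ s ∈ T, s ∉ U ∧ t * s ∉ U ∧
      (∀ d ∈ T, d * d ∈ U → d ∈ U ∨ t * d ∈ U ∨ s⁻¹ * d ∈ U ∨ (t * s)⁻¹ * d ∈ U) ∧
      ∃ v, (v = s ∨ v = t * s) ∧ NoConj F v := by
  have hU : ∀ d ∈ T, ∀ u ∈ U, d * u * d⁻¹ ∈ U := by
    intro d hd u hu
    exact mem_U F (mul_mem (mul_mem hd (F.UT hu)) (inv_mem hd)) (F.norm d hd u (F.le hu))
  have hsq : ∀ e ∈ D, ∀ u ∈ U, e * u * (e * u) ∈ U → e * e = 1 := by
    intro e he u hu h1
    apply hDU _ (mul_mem he he)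
    have h2 : e * e = (e * u * e⁻¹)⁻¹ * (e * u * (e * u)) * u⁻¹ := by group
    rw [h2]
    exact mul_mem (mul_mem (inv_mem (hU e (hDT he) u hu)) h1) (inv_mem hu)
  by_cases hs : ∃ s ∈ D, s * s = 1 ∧ s ≠ 1 ∧ s ≠ t
  · obtain ⟨s, hs, hss, hs1, hst⟩ := hs
    right
    refine ⟨s, hDT hs, fun h => hs1 (hDU s hs h), fun h => hst ?_, ?_, hex s hs hss hs1 hst⟩
    · have h1 := hDU _ (mul_mem htD hs) h
      have h2 : s = t * (t * s) := by rw [← mul_assoc, F.tt, one_mul]
      rw [h2, h1, mul_one]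
    · intro d hd hdd
      obtain ⟨e, he, u, hu, rfl⟩ := hTD d hd
      have hee := hsq e he u hu hdd
      by_cases he1 : e = 1
      · left; rw [he1, one_mul]; exact hu
      by_cases het : e = t
      · right; left; rw [het, ← mul_assoc, F.tt, one_mul]; exact hu
      rcases hone s hs e he hss hee hs1 hst he1 het with h | h
      · right; right; left
        rw [h, inv_mul_cancel_left]; exact hu
      · right; right; right
        rw [h, inv_mul_cancel_left]; exact hu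
  · left
    push Not at hs
    intro d hd hdd
    obtain ⟨e, he, u, hu, rfl⟩ := hTD d hd
    have hee := hsq e he u hu hdd
    by_cases he1 : e = 1
    · left; rw [he1, one_mul]; exact hu
    · right
      rw [hs e he hee he1, ← mul_assoc, F.tt, one_mul]; exact hu

/-! ### Pairs -/

section pair

variable {V X : ℕ → Subgroup G} {n : ℕ}

/-- `v` interchanges `V (2m)` and `V (2m+1)`. -/
structure Swap (v : G) (V : ℕ → Subgroup G) (n : ℕ) : Prop where
  vv : v * v = 1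
  even : ∀ m < n, ∀ w ∈ V (2 * m), v * w * v ∈ V (2 * m + 1)
  odd : ∀ m < n, ∀ w ∈ V (2 * m + 1), v * w * v ∈ V (2 * m)

namespace Swap

variable {v : G}

theorem conj_mul (S : Swap v V n) (a b : G) : v * (a * b) * v = (v * a * v) * (v * b * v) := by
  calc v * (a * b) * v = v * a * 1 * b * v := by group
    _ = v * a * (v * v) * b * v := by rw [S.vv]
    _ = (v * a * v) * (v * b * v) := by group

theorem conj_conj (S : Swap v V n) (a : G) : v * (v * a * v) * v = a := by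
  calc v * (v * a * v) * v = (v * v) * a * (v * v) := by group
    _ = a := by rw [S.vv, one_mul, mul_one]

theorem vi (S : Swap v V n) : v⁻¹ = v := inv_eq_of_mul_eq_one_left S.vv

theorem conj_inv (S : Swap v V n) (a : G) : v * a⁻¹ * v = (v * a * v)⁻¹ := by
  rw [mul_inv_rev, mul_inv_rev, S.vi, mul_assoc]

theorem conj_W (S : Swap v V n) {m : ℕ} (hm : m ≤ n) {w : G} (hw : w ∈ Growth.W V (2 * m)) :
    v * w * v ∈ Growth.W V (2 * m) := by
  have hle : Growth.W V (2 * m) ≤ (Growth.W V (2 * m)).comap (MulAut.conj v).toMonoidHom := by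
    refine iSup₂_le fun i hi u hu => ?_
    show v * u * v⁻¹ ∈ Growth.W V (2 * m)
    rw [S.vi]
    rcases Nat.even_or_odd' i with ⟨k, rfl | rfl⟩
    · exact Growth.le_W V (by omega : 2 * k + 1 < 2 * m) (S.even k (by omega) u hu)
    · exact Growth.le_W V (by omega : 2 * k < 2 * m) (S.odd k (by omega) u hu)
  have h1 : v * w * v⁻¹ ∈ Growth.W V (2 * m) := hle hw
  rwa [S.vi] at h1

end Swap

/-- decomposition of an element of `W (2m+2)` -/
theorem decomp (D : Growth.Dbl t V X (2 * n)) {m : ℕ} (hm : m < n) {w : G}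
    (hw : w ∈ Growth.W V (2 * (m + 1))) :
    ∃ u ∈ Growth.W V (2 * m), ∃ a ∈ V (2 * m), ∃ b ∈ V (2 * m + 1), w = u * a * b := by
  obtain ⟨u, hu, b, hb, rfl⟩ := D.mem_succ (k := 2 * m + 1) (by omega) hw
  obtain ⟨u', hu', a, ha, rfl⟩ := D.mem_succ (k := 2 * m) (by omega) hu
  exact ⟨u', hu', a, ha, b, hb, rfl⟩

/-- independence of a pair -/
theorem pair_one (D : Growth.Dbl t V X (2 * n)) {m : ℕ} (hm : m < n) {a b : G} (ha : a ∈ V (2 * m))
    (hb : b ∈ V (2 * m + 1)) (hab : a * b ∈ Growth.W V (2 * m)) : a = 1 ∧ b = 1 := by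
  have h1 : b ∈ V (2 * m + 1) ⊓ Growth.W V (2 * m + 1) := by
    refine Subgroup.mem_inf.2 ⟨hb, ?_⟩
    have h2 : b = a⁻¹ * (a * b) := by group
    rw [h2]
    exact mul_mem (inv_mem (Growth.le_W V (Nat.lt_succ_self _) ha)) (Growth.W_mono V (Nat.le_succ _) hab)
  rw [Grow.disj D (by omega), mem_bot] at h1
  subst h1
  rw [mul_one] at hab
  have h2 : a ∈ V (2 * m) ⊓ Growth.W V (2 * m) := Subgroup.mem_inf.2 ⟨ha, hab⟩
  rw [Grow.disj D (by omega), mem_bot] at h2
  exact ⟨h2, rfl⟩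

theorem norm_V (D : Growth.Dbl t V X (2 * n)) {m : ℕ} (hm : m < n) {g w : G}
    (hg : g ∈ V (2 * m) ∨ g ∈ V (2 * m + 1)) (hw : w ∈ Growth.W V (2 * m)) :
    g * w * g⁻¹ ∈ Growth.W V (2 * m) := by
  rcases hg with hg | hg
  · exact D.normal le_rfl (by omega) hg hw
  · exact D.normal (by omega) (by omega) hg hw

/-- the leading components of a fixed element -/
theorem fixed_comp (D : Growth.Dbl t V X (2 * n)) {v : G} (S : Swap v V n) {m : ℕ} (hm : m < n) {u a b : G}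
    (hu : u ∈ Growth.W V (2 * m)) (ha : a ∈ V (2 * m)) (hb : b ∈ V (2 * m + 1))
    (h : v * (u * a * b) * v = u * a * b) : b = v * a * v := by
  have ha' := S.even m hm a ha
  have hb' := S.odd m hm b hb
  have hu' := S.conj_W hm.le hu
  have hbi : b⁻¹ = b := inv_eq_of_mul_eq_one_left (D.sq _ (by omega) b hb)
  rw [S.conj_mul, S.conj_mul] at h
  set a' := v * a * v
  set b' := v * b * v
  set u' := v * u * v
  -- `a⁻¹ b' (a' b⁻¹) ∈ W (2m)`
  have c1 : b' * a' * b'⁻¹ * a'⁻¹ ∈ Growth.W V (2 * m) := D.comm (2 * m) (2 * m + 1) (by omega) (by omega) b' hb' a' ha'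
  have h1 : b' * a' = (b' * a' * b'⁻¹ * a'⁻¹) * (u'⁻¹ * u) * a * b := by
    calc b' * a' = (b' * a' * b'⁻¹ * a'⁻¹) * (u'⁻¹ * (u' * a' * b')) := by group
      _ = _ := by rw [h]; group
  set z := (b' * a' * b'⁻¹ * a'⁻¹) * (u'⁻¹ * u)
  have hz : z ∈ Growth.W V (2 * m) := mul_mem c1 (mul_mem (inv_mem hu') hu)
  have h2 : a⁻¹ * b' * (a' * b⁻¹) = a⁻¹ * z * a⁻¹⁻¹ := by
    calc a⁻¹ * b' * (a' * b⁻¹) = a⁻¹ * (b' * a') * b⁻¹ := by group
      _ = a⁻¹ * z * a⁻¹⁻¹ := by rw [h1]; group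
  obtain ⟨-, h4⟩ := pair_one D hm (mul_mem (inv_mem ha) hb') (mul_mem ha' (inv_mem hb)) (by
    rw [h2]
    exact norm_V D hm (Or.inl (inv_mem ha)) hz)
  exact (mul_inv_eq_one.1 h4).symm

/-- **Every involution of `v W` is conjugate to `v`.** -/
theorem conj_pair (D : Growth.Dbl t V X (2 * n)) {v : G} (S : Swap v V n) (m : ℕ) : m ≤ n →
    ∀ w ∈ Growth.W V (2 * m), v * w * (v * w) = 1 → ∃ c ∈ Growth.W V (2 * m), v * w = c * v * c⁻¹ := by
  induction m with
  | zero =>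
    intro _ w hw _
    rw [mul_zero, Growth.W_zero] at hw ⊢
    refine ⟨1, one_mem _, ?_⟩
    rw [mem_bot.1 hw]; group
  | succ m ih =>
    intro hm w hw hvw
    have hm' : m < n := hm
    obtain ⟨u, hu, a, ha, b, hb, rfl⟩ := decomp D hm' hw
    have ha' := S.even m hm' a ha
    have hb' := S.odd m hm' b hb
    have hu' := S.conj_W hm'.le hu
    have hai : a⁻¹ = a := inv_eq_of_mul_eq_one_left (D.sq _ (by omega) a ha)
    have hbi : b⁻¹ = b := inv_eq_of_mul_eq_one_left (D.sq _ (by omega) b hb)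
    have h0 : (v * u * v) * (v * a * v) * (v * b * v) * (u * a * b) = 1 := by
      rw [← S.conj_mul, ← S.conj_mul, ← hvw]; group
    have hab : a = v * b * v := by
      set a' := v * a * v
      set b' := v * b * v
      set u' := v * u * v
      -- `(b' a) (a' b) ∈ W (2m)`
      have c1 : b' * a' * b'⁻¹ * a'⁻¹ ∈ Growth.W V (2 * m) :=
        D.comm (2 * m) (2 * m + 1) (by omega) (by omega) b' hb' a' ha'
      have c2 : a * a' * a⁻¹ * a'⁻¹ ∈ Growth.W V (2 * m) :=
        D.comm (2 * m) (2 * m + 1) (by omega) (by omega) a ha a' ha'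
      -- `a' b' u a b = u'⁻¹`
      have h1 : a' * b' * (u * a * b) = u'⁻¹ := by
        rw [← mul_one u'⁻¹, ← h0]; group
      have h2 : b' * a * (a' * b) =
          (b' * (a * a' * a⁻¹ * a'⁻¹) * b'⁻¹) * ((b' * a' * b'⁻¹ * a'⁻¹) * (a' * (b' * u⁻¹ * b'⁻¹) * a'⁻¹) * u'⁻¹) := by
        rw [← h1]; group
      obtain ⟨h3, -⟩ := pair_one D hm' (mul_mem hb' ha) (mul_mem ha' hb) (by
        rw [h2]
        exact mul_mem (norm_V D hm' (Or.inl hb') c2)
          (mul_mem (mul_mem c1 (norm_V D hm' (Or.inr ha') (norm_V D hm' (Or.inl hb') (inv_mem hu)))) (inv_mem hu')))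
      have h4 : b' = a⁻¹ := eq_inv_of_mul_eq_one_left h3
      rw [h4, hai]
    -- conjugate by `b`
    have e1 : v * (u * a * b) = b * (v * (v * (b⁻¹ * (v * u * v) * b) * v)) * b⁻¹ := by
      rw [hab]
      calc v * (u * (v * b * v) * b) = (v * u * v) * b * v * b := by group
        _ = (v * u * v) * b * v * b⁻¹ := by rw [hbi]
        _ = b * (1 * (b⁻¹ * (v * u * v) * b) * v) * b⁻¹ := by group
        _ = b * (v * (v * (b⁻¹ * (v * u * v) * b) * v)) * b⁻¹ := by rw [← S.vv]; group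
    set x := v * (b⁻¹ * (v * u * v) * b) * v with hx
    have hxm : x ∈ Growth.W V (2 * m) := by
      apply S.conj_W hm'.le
      have := norm_V D hm' (Or.inr (inv_mem hb)) hu'
      rwa [inv_inv] at this
    obtain ⟨c, hc, hce⟩ := ih hm'.le x hxm (by
      have h1 : v * x * (v * x) = b⁻¹ * (b * (v * x) * b⁻¹ * (b * (v * x) * b⁻¹)) * b := by group
      rw [h1, ← e1, hvw]; group)
    refine ⟨b * c, mul_mem (Growth.le_W V (by omega : 2 * m + 1 < 2 * (m + 1)) hb)
      (Growth.W_mono V (by omega) hc), ?_⟩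
    rw [e1, hce]; group

/-- **The number of fixed points.** -/
theorem card_pair [Finite G] (D : Growth.Dbl t V X (2 * n)) {v : G} (S : Swap v V n) {Q : ℕ}
    (hQ : ∀ i < 2 * n, Nat.card (V i) ≤ Q) (m : ℕ) : m ≤ n →
    Nat.card (Growth.W V (2 * m) ⊓ centralizer ({v} : Set G) : Subgroup G) ≤ Q ^ m := by
  have key : ∀ w : G, w * v = v * w → v * w * v = w := by
    intro w h1
    rw [mul_assoc, h1, ← mul_assoc, S.vv, one_mul]
  induction m with
  | zero =>
    intro _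
    rw [mul_zero, Growth.W_zero, bot_inf_eq, card_bot, pow_zero]
  | succ m ih =>
    intro hm
    have hm' : m < n := hm
    set A : Subgroup G := Growth.W V (2 * (m + 1)) ⊓ centralizer ({v} : Set G) with hA
    set M : Subgroup G := Growth.W V (2 * m) ⊓ centralizer ({v} : Set G) with hM
    have hMA : M ≤ A := inf_le_inf_right _ (Growth.W_mono V (by omega))
    have hlead : ∀ g : A, ∃ a : V (2 * m), (a * (v * a * v))⁻¹ * (g : G) ∈ Growth.W V (2 * m) := by
      intro g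
      obtain ⟨u, hu, a, ha, b, hb, he⟩ := decomp D hm' g.2.1
      have h1 := key _ (mem_centralizer_singleton_iff.1 g.2.2)
      rw [he] at h1
      have h2 := fixed_comp D S hm' hu ha hb h1
      refine ⟨⟨a, ha⟩, ?_⟩
      rw [he]
      change (a * (v * a * v))⁻¹ * (u * a * b) ∈ _
      rw [← h2]
      have h3 := norm_V D hm' (Or.inr (inv_mem hb)) (norm_V D hm' (Or.inl (inv_mem ha)) hu)
      have h4 : (a * b)⁻¹ * (u * a * b) = b⁻¹ * (a⁻¹ * u * a⁻¹⁻¹) * b⁻¹⁻¹ := by group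
      rw [h4]; exact h3
    choose f hf using hlead
    have h1 : (M.subgroupOf A).index ≤ Nat.card (V (2 * m)) := by
      rw [index]
      refine Nat.card_le_card_of_injective (fun q : A ⧸ M.subgroupOf A => f q.out) ?_
      intro q q' hqq
      have e1 := hf q.out
      have e2 := hf q'.out
      have hqq' : f q.out = f q'.out := hqq
      rw [hqq'] at e1
      rw [← QuotientGroup.out_eq' q, ← QuotientGroup.out_eq' q', QuotientGroup.eq, mem_subgroupOf]
      refine ⟨?_, (mul_mem (inv_mem q.out.2) q'.out.2).2⟩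
      have h2 := mul_mem (inv_mem e1) e2
      have h3 : (((f q'.out : G) * (v * (f q'.out : G) * v))⁻¹ * (q.out : G))⁻¹ *
          (((f q'.out : G) * (v * (f q'.out : G) * v))⁻¹ * (q'.out : G)) = ((q.out : G))⁻¹ * (q'.out : G) := by group
      rw [h3] at h2
      exact h2
    have h2 : Nat.card (M.subgroupOf A) * (M.subgroupOf A).index = Nat.card A := card_mul_index _
    have h3 : Nat.card (M.subgroupOf A) = Nat.card M := Nat.card_congr (subgroupOfEquivOfLe hMA).toEquiv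
    calc Nat.card A = Nat.card M * (M.subgroupOf A).index := by rw [← h2, h3]
      _ ≤ Q ^ m * Q := Nat.mul_le_mul (ih hm'.le) (h1.trans (hQ _ (by omega)))
      _ = Q ^ (m + 1) := (pow_succ Q m).symm

end pair

end Cfsg.Agent.OddHalf.Out.Excl
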