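import Mathlib

/-!
# Zero divisors in one doubled `A₂`

`F` is a finite field of characteristic 2, `σ` an automorphism of order 2, `x1, x2, x3 : F → G` three root groups with
`[x1 a, x2 b] = x3 (a b)`, `W1, W2, W3` the doubled root groups, `t` and `s` commuting involutions, `t` centralises the
root groups and `s` acts on them through `σ`. Then `s` and `t s` act freely on `W3`, and for `v = s` or `v = t s` there
are nontrivial `v`-invariant elements `y ∈ W1`, `w ∈ W2` with `[y, w] = 1` and `[y, x2 1] ≠ 1`.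
-/

set_option autoImplicit false

namespace Cfsg.Agent.OddHalf.Out.ZeroDiv

variable {G : Type*} [Group G] {F : Type*} [Field F]

/-! ### The field -/

/-- `℘ (F₀)` has index 2 in the fixed field `F₀`. -/
theorem exists_eps [Finite F] [CharP F 2] (σ : F →+* F) {w0 : F} (hw0 : w0 + σ w0 = 1) {β : F}
    (hβ : σ β = β) : ∃ ε : F, σ ε = ε ∧ (β = ε * ε + ε ∨ β + (w0 * w0 + w0) = ε * ε + ε) := by
  classical
  have add_self : ∀ a : F, a + a = 0 := CharTwo.add_self_eq_zero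
  have hσw : σ w0 = w0 + 1 := by
    have h1 : σ w0 = w0 + (w0 + σ w0) := by rw [← add_assoc, add_self, zero_add]
    rw [h1, hw0]
  set δ : F := w0 * w0 + w0 with hδ
  have hσδ : σ δ = δ := by
    rw [hδ, map_add, map_mul, hσw]
    have : (w0 + 1) * (w0 + 1) + (w0 + 1) = w0 * w0 + w0 + (w0 + w0) + (1 + 1) := by ring
    rw [this, add_self, add_self, add_zero, add_zero]
  let F0 : AddSubgroup F :=
    { carrier := {a | σ a = a}
      zero_mem' := map_zero σ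
      add_mem' := fun {a b} ha hb => by
        change σ (a + b) = a + b
        rw [map_add]
        exact congrArg₂ (· + ·) ha hb
      neg_mem' := fun {a} ha => by
        change σ (-a) = -a
        rw [map_neg]
        exact congrArg Neg.neg ha }
  have hF0 : ∀ a : F, a ∈ F0 ↔ σ a = a := fun a => Iff.rfl
  let p : F0 →+ F0 :=
    { toFun := fun a => ⟨(a : F) * a + a, by
        rw [hF0, map_add, map_mul, (hF0 a).1 a.2]⟩
      map_zero' := Subtype.ext (by change (0 : F) * 0 + 0 = 0; ring)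
      map_add' := fun a b => Subtype.ext (by
        change ((a : F) + b) * (a + b) + (a + b) = (a * a + a) + (b * b + b)
        have : ((a : F) + b) * (a + b) + (a + b) = (a * a + a) + (b * b + b) + (a * b + a * b) := by ring
        rw [this, add_self, add_zero]) }
  have hp : ∀ a : F0, ((p a : F0) : F) = (a : F) * a + a := fun a => rfl
  have hker : Nat.card p.ker = 2 := by
    have h0 : (0 : F0) ∈ p.ker := zero_mem _
    have h1 : (⟨1, (hF0 1).2 (map_one σ)⟩ : F0) ∈ p.ker := by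
      rw [AddMonoidHom.mem_ker]
      apply Subtype.ext
      rw [hp]
      change (1 : F) * 1 + 1 = 0
      rw [mul_one]
      exact add_self 1
    rw [Nat.card_eq_two_iff]
    refine ⟨⟨0, h0⟩, ⟨_, h1⟩, ?_, ?_⟩
    · intro h
      have h2 : (0 : F) = 1 := congrArg (fun x : p.ker => ((x : F0) : F)) h
      exact zero_ne_one h2
    · rw [Set.eq_univ_iff_forall]
      rintro ⟨a, ha⟩
      rw [AddMonoidHom.mem_ker] at ha
      have h2 : (a : F) * a + a = 0 := congrArg (fun x : F0 => (x : F)) ha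
      have h3 : (a : F) * (a + 1) = 0 := by rw [mul_add, mul_one]; exact h2
      rcases mul_eq_zero.1 h3 with h4 | h4
      · left
        apply Subtype.ext
        exact Subtype.ext h4
      · right
        apply Subtype.ext
        apply Subtype.ext
        change (a : F) = 1
        have h5 : (a : F) = a + 1 + 1 := by rw [add_assoc, add_self, add_zero]
        rw [h5, h4, zero_add]
  have hidx : p.range.index = 2 := by
    have h1 : Nat.card p.range * p.range.index = Nat.card F0 := AddSubgroup.card_mul_index _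
    have h2 : Nat.card p.ker * p.ker.index = Nat.card F0 := AddSubgroup.card_mul_index _
    have h3 : p.ker.index = Nat.card p.range := AddSubgroup.index_ker p
    rw [hker, h3, mul_comm] at h2
    have h4 : 0 < Nat.card p.range := Nat.card_pos
    exact Nat.eq_of_mul_eq_mul_left h4 (h1.trans h2.symm)
  have hδn : (⟨δ, (hF0 δ).2 hσδ⟩ : F0) ∉ p.range := by
    rintro ⟨ε, hε⟩
    have h1 : (ε : F) * ε + ε = δ := congrArg (fun x : F0 => (x : F)) hε
    have h2 : (w0 + ε) * ((w0 + ε) + 1) = 0 := by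
      have : (w0 + ε) * ((w0 + ε) + 1) = (w0 * w0 + w0) + ((ε : F) * ε + ε) + (w0 * ε + w0 * ε) := by ring
      rw [this, h1, hδ, add_self, add_self, add_zero]
    have hσε : σ (ε : F) = ε := (hF0 _).1 ε.2
    have hcontra : σ w0 = w0 → False := by
      intro h
      rw [h, add_self] at hw0
      exact zero_ne_one hw0
    rcases mul_eq_zero.1 h2 with h3 | h3
    · apply hcontra
      have h4 : w0 = ε := by
        have : w0 = w0 + ε + ε := by rw [add_assoc, add_self, add_zero]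
        rw [this, h3, zero_add]
      rw [h4, hσε]
    · apply hcontra
      have h4 : w0 = ε + 1 := by
        have : w0 = (w0 + ε + 1) + (ε + 1) := by
          have h5 : (w0 + ε + 1) + ((ε : F) + 1) = w0 + ((ε : F) + ε) + (1 + 1) := by ring
          rw [h5, add_self, add_self, add_zero, add_zero]
        rw [this, h3, zero_add]
      rw [h4, map_add, map_one, hσε]
  by_cases hβm : (⟨β, (hF0 β).2 hβ⟩ : F0) ∈ p.range
  · obtain ⟨ε, hε⟩ := hβm
    exact ⟨ε, ε.2, Or.inl (congrArg (fun x : F0 => (x : F)) hε).symm⟩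
  · have h1 : (⟨β, (hF0 β).2 hβ⟩ : F0) + ⟨δ, (hF0 δ).2 hσδ⟩ ∈ p.range := by
      rw [AddSubgroup.add_mem_iff_of_index_two hidx]
      exact ⟨fun h => absurd h hβm, fun h => absurd h hδn⟩
    obtain ⟨ε, hε⟩ := h1
    exact ⟨ε, ε.2, Or.inr (congrArg (fun x : F0 => (x : F)) hε).symm⟩

/-- There is `w₀` of trace 1. -/
theorem exists_w0 [CharP F 2] (σ : F →+* F) (h2 : ∀ a, σ (σ a) = a) (hne : ∃ a, σ a ≠ a) :
    ∃ w0 : F, w0 + σ w0 = 1 := by
  obtain ⟨a, ha⟩ := hne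
  have h1 : a + σ a ≠ 0 := by
    intro h
    apply ha
    have : σ a = a + (a + σ a) := by rw [← add_assoc, CharTwo.add_self_eq_zero, zero_add]
    rw [this, h, add_zero]
  refine ⟨a / (a + σ a), ?_⟩
  rw [map_div₀, map_add, h2, add_comm (σ a) a, ← add_div, div_self h1]

/-! ### One doubled root group -/

/-- One doubled root group. -/
structure Lay (t s : G) (σ : F →+* F) (x : F → G) (W : Subgroup G) : Prop where
  add : ∀ a b, x (a + b) = x a * x b
  inj : ∀ a, x a = 1 → a = 0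
  mem : ∀ a, x a ∈ W
  sq : ∀ w ∈ W, w * w = 1
  conj_t : ∀ w ∈ W, t * w * t ∈ W
  cent : ∀ w ∈ W, t * w = w * t → ∃ a, w = x a
  tx : ∀ a, t * x a = x a * t
  brk : ∀ w ∈ W, ∃ a, w⁻¹ * (t * w * t) = x a
  surj : ∀ a, ∃ w ∈ W, w⁻¹ * (t * w * t) = x a
  sx : ∀ a, s * x a * s⁻¹ = x (σ a)
  sW : ∀ w ∈ W, s * w * s⁻¹ ∈ W

namespace Lay

variable {t s : G} {σ : F →+* F} {x : F → G} {W : Subgroup G}

theorem comm (h : Lay t s σ x W) {a b : G} (ha : a ∈ W) (hb : b ∈ W) : a * b = b * a := by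
  have e1 := h.sq (a * b) (mul_mem ha hb)
  have e2 := h.sq a ha
  have e3 := h.sq b hb
  calc a * b = a * ((a * b) * (a * b)) * b := by rw [e1, mul_one]
    _ = (a * a) * (b * a) * (b * b) := by group
    _ = b * a := by rw [e2, e3, one_mul, mul_one]

theorem inv_eq (h : Lay t s σ x W) {a : G} (ha : a ∈ W) : a⁻¹ = a :=
  inv_eq_of_mul_eq_one_left (h.sq a ha)

theorem zero (h : Lay t s σ x W) : x 0 = 1 := by
  have h1 := h.add 0 0
  rw [add_zero] at h1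
  exact (mul_eq_left.1 h1.symm)

theorem xinj (h : Lay t s σ x W) {a b : F} (hab : x a = x b) : a = b := by
  have h1 : x (a - b) = 1 := by
    have h2 := h.add (a - b) b
    rw [sub_add_cancel, hab] at h2
    exact (mul_eq_right.1 h2.symm)
  exact sub_eq_zero.1 (h.inj _ h1)

/-- An element with bracket `x 1` fixed by `s`. -/
theorem exists_theta [CharP F 2] (h : Lay t s σ x W) (tt : t * t = 1) (ss : s * s = 1) (st : s * t = t * s)
    {w0 : F} (hw0 : w0 + σ w0 = 1) : ∃ θ ∈ W, t * θ * t = θ * x 1 ∧ s * θ * s⁻¹ = θ := by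
  have add_self : ∀ a : F, a + a = 0 := CharTwo.add_self_eq_zero
  obtain ⟨θ, hθ, hb⟩ := h.surj 1
  have hb' : t * θ * t = θ * x 1 := by rw [← hb, mul_inv_cancel_left]
  have hsθ := h.sW θ hθ
  have hts : t * (s * θ * s⁻¹) * t = s * θ * s⁻¹ * x 1 := by
    have ts' : s⁻¹ * t = t * s⁻¹ := by
      have : s⁻¹ * (s * t) * s⁻¹ = s⁻¹ * (t * s) * s⁻¹ := by rw [st]
      have h1 : s⁻¹ * (s * t) * s⁻¹ = t * s⁻¹ := by group
      have h2 : s⁻¹ * (t * s) * s⁻¹ = s⁻¹ * t := by group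
      rw [h1, h2] at this
      exact this.symm
    calc t * (s * θ * s⁻¹) * t = (t * s) * θ * (s⁻¹ * t) := by group
      _ = s * (t * θ * t) * s⁻¹ := by rw [← st, ts']; group
      _ = s * θ * (s⁻¹ * (s * x 1 * s⁻¹)) := by rw [hb']; group
      _ = s * θ * s⁻¹ * x 1 := by rw [h.sx, map_one]; group
  obtain ⟨γ, hγ⟩ := h.cent (θ⁻¹ * (s * θ * s⁻¹)) (mul_mem (inv_mem hθ) hsθ) (by
    have h1 : t * (θ⁻¹ * (s * θ * s⁻¹)) * t = θ⁻¹ * (s * θ * s⁻¹) := by
      have h2 : t * (θ⁻¹ * (s * θ * s⁻¹)) * t = (t * θ * t)⁻¹ * (t * (s * θ * s⁻¹) * t) := by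
        have ti : t⁻¹ = t := inv_eq_of_mul_eq_one_left tt
        calc t * (θ⁻¹ * (s * θ * s⁻¹)) * t = t * θ⁻¹ * (t * t) * (s * θ * s⁻¹) * t := by rw [tt]; group
          _ = (t⁻¹ * θ⁻¹ * t⁻¹) * (t * (s * θ * s⁻¹) * t) := by rw [ti]; group
          _ = _ := by group
      rw [h2, hts, hb', mul_inv_rev]
      have c1 := h.comm (h.mem 1) (inv_mem hθ)
      have c2 := h.comm (h.mem 1) hsθ
      calc (x 1)⁻¹ * θ⁻¹ * (s * θ * s⁻¹ * x 1) = (x 1)⁻¹ * θ⁻¹ * (x 1 * (s * θ * s⁻¹)) := by rw [c2]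
        _ = (x 1)⁻¹ * (θ⁻¹ * x 1) * (s * θ * s⁻¹) := by group
        _ = (x 1)⁻¹ * (x 1 * θ⁻¹) * (s * θ * s⁻¹) := by rw [c1]
        _ = _ := by group
    calc t * (θ⁻¹ * (s * θ * s⁻¹)) = t * (θ⁻¹ * (s * θ * s⁻¹)) * (t * t) := by rw [tt, mul_one]
      _ = (t * (θ⁻¹ * (s * θ * s⁻¹)) * t) * t := by group
      _ = _ := by rw [h1])
  have hsθ' : s * θ * s⁻¹ = θ * x γ := by rw [← hγ, mul_inv_cancel_left]
  have hγγ : γ + σ γ = 0 := by
    apply h.inj
    rw [h.add]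
    have h1 : s * (s * θ * s⁻¹) * s⁻¹ = θ := by
      have si : s⁻¹ = s := inv_eq_of_mul_eq_one_left ss
      calc s * (s * θ * s⁻¹) * s⁻¹ = (s * s) * θ * (s⁻¹ * s⁻¹) := by group
        _ = θ := by rw [si, ss]; group
    have h2 : s * (s * θ * s⁻¹) * s⁻¹ = θ * x γ * x (σ γ) := by
      rw [hsθ']
      calc s * (θ * x γ) * s⁻¹ = (s * θ * s⁻¹) * (s * x γ * s⁻¹) := by group
        _ = θ * x γ * x (σ γ) := by rw [hsθ', h.sx]
    rw [h1] at h2
    have h3 : θ * 1 = θ * (x γ * x (σ γ)) := by rw [mul_one, ← mul_assoc]; exact h2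
    exact (mul_left_cancel h3).symm
  have hσγ : σ γ = γ := by
    have : σ γ = γ + (γ + σ γ) := by rw [← add_assoc, add_self, zero_add]
    rw [this, hγγ, add_zero]
  have hd : γ * w0 + σ (γ * w0) = γ := by
    rw [map_mul, hσγ, ← mul_add, hw0, mul_one]
  refine ⟨θ * x (γ * w0), mul_mem hθ (h.mem _), ?_, ?_⟩
  · calc t * (θ * x (γ * w0)) * t = t * θ * (t * t) * x (γ * w0) * t := by rw [tt]; group
      _ = (t * θ * t) * (t * x (γ * w0)) * t := by group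
      _ = (t * θ * t) * (x (γ * w0) * t) * t := by rw [h.tx]
      _ = (t * θ * t) * x (γ * w0) * (t * t) := by group
      _ = θ * (x 1 * x (γ * w0)) := by rw [hb', tt]; group
      _ = θ * (x (γ * w0) * x 1) := by rw [h.comm (h.mem _) (h.mem _)]
      _ = _ := by group
  · calc s * (θ * x (γ * w0)) * s⁻¹ = (s * θ * s⁻¹) * (s * x (γ * w0) * s⁻¹) := by group
      _ = θ * (x γ * x (σ (γ * w0))) := by rw [hsθ', h.sx]; group
      _ = θ * x (γ * w0) := by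
        rw [← h.add]
        congr 2
        have h1 : γ + σ (γ * w0) = γ * w0 + (σ (γ * w0) + σ (γ * w0)) := by
          nth_rewrite 1 [← hd]; ring
        rw [h1, add_self, add_zero]

end Lay

/-! ### The pair -/

/-- The hypotheses. -/
structure Pair (t s : G) (σ : F →+* F) (x1 x2 x3 : F → G) (W1 W2 W3 : Subgroup G) : Prop where
  tt : t * t = 1
  ss : s * s = 1
  st : s * t = t * s
  l1 : Lay t s σ x1 W1
  l2 : Lay t s σ x2 W2
  l3 : Lay t s σ x3 W3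
  comm : ∀ a ∈ W1, ∀ b ∈ W2, a * b * a⁻¹ * b⁻¹ ∈ W3
  c13 : ∀ a ∈ W1, ∀ b ∈ W3, a * b = b * a
  c23 : ∀ a ∈ W2, ∀ b ∈ W3, a * b = b * a
  rel : ∀ a b, x1 a * x2 b * (x1 a)⁻¹ * (x2 b)⁻¹ = x3 (a * b)
  torus : ∀ l : F, l ≠ 0 → ∃ h h' : G, (∀ w ∈ W1, h * w * h⁻¹ = w) ∧ (∀ a, h * x2 a * h⁻¹ = x2 (l * a)) ∧
    (∀ w ∈ W2, h' * w * h'⁻¹ = w) ∧ (∀ a, h' * x1 a * h'⁻¹ = x1 (l * a)) ∧
    ∀ w ∈ W3, h * w * h⁻¹ = h' * w * h'⁻¹

/-- commutator -/
def br (a b : G) : G := a * b * a⁻¹ * b⁻¹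

theorem conj_br (z a b : G) : z * br a b * z⁻¹ = br (z * a * z⁻¹) (z * b * z⁻¹) := by
  unfold br; group

namespace Pair

variable {t s : G} {σ : F →+* F} {x1 x2 x3 : F → G} {W1 W2 W3 : Subgroup G}

theorem br_mem (P : Pair t s σ x1 x2 x3 W1 W2 W3) {a b : G} (ha : a ∈ W1) (hb : b ∈ W2) : br a b ∈ W3 :=
  P.comm a ha b hb

theorem mL (P : Pair t s σ x1 x2 x3 W1 W2 W3) {a a' b : G} (ha : a ∈ W1) (ha' : a' ∈ W1) (hb : b ∈ W2) :
    br (a * a') b = br a b * br a' b := by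
  have h1 := P.c13 a ha _ (P.br_mem ha' hb)
  have h2 := P.l3.comm (P.br_mem ha hb) (P.br_mem ha' hb)
  calc br (a * a') b = (a * br a' b) * b * a⁻¹ * b⁻¹ := by unfold br; group
    _ = (br a' b * a) * b * a⁻¹ * b⁻¹ := by rw [h1]
    _ = br a' b * br a b := by unfold br; group
    _ = _ := h2.symm

theorem mR (P : Pair t s σ x1 x2 x3 W1 W2 W3) {a b b' : G} (ha : a ∈ W1) (hb : b ∈ W2) (hb' : b' ∈ W2) :
    br a (b * b') = br a b * br a b' := by
  have h1 := P.c23 b hb _ (P.br_mem ha hb')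
  calc br a (b * b') = br a b * (b * br a b') * b⁻¹ := by unfold br; group
    _ = br a b * (br a b' * b) * b⁻¹ := by rw [h1]
    _ = br a b * br a b' := by group

theorem br_x (P : Pair t s σ x1 x2 x3 W1 W2 W3) (a b : F) : br (x1 a) (x2 b) = x3 (a * b) := P.rel a b

/-- conjugation by `t` -/
theorem tbr (P : Pair t s σ x1 x2 x3 W1 W2 W3) (a b : G) : t * br a b * t = br (t * a * t) (t * b * t) := by
  have ti : t⁻¹ = t := inv_eq_of_mul_eq_one_left P.tt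
  have h := conj_br t a b
  rw [ti] at h
  exact h

theorem tx' {x : F → G} {W : Subgroup G} (tt : t * t = 1) (l : Lay t s σ x W) (a : F) : t * x a * t = x a := by
  rw [l.tx, mul_assoc, tt, mul_one]

end Pair

/-- The coordinates. -/
structure Coord (t s : G) (σ : F →+* F) (x1 x2 x3 : F → G) (W1 W2 W3 : Subgroup G) (θ1 θ2 : G) (β : F) :
    Prop extends Pair t s σ x1 x2 x3 W1 W2 W3 where
  m1 : θ1 ∈ W1
  m2 : θ2 ∈ W2
  t1 : t * θ1 * t = θ1 * x1 1
  t2 : t * θ2 * t = θ2 * x2 1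
  s1 : s * θ1 * s⁻¹ = θ1
  s2 : s * θ2 * s⁻¹ = θ2
  sym : ∀ l, br θ1 (x2 l) = br (x1 l) θ2
  mul : br θ1 θ2 = br θ1 (x2 1) * x3 β
  hβ : σ β = β

theorem Pair.exists_coord [CharP F 2] {t s : G} {σ : F →+* F} {x1 x2 x3 : F → G} {W1 W2 W3 : Subgroup G}
    (P : Pair t s σ x1 x2 x3 W1 W2 W3) {w0 : F} (hw0 : w0 + σ w0 = 1) :
    ∃ θ1 θ2 β, Coord t s σ x1 x2 x3 W1 W2 W3 θ1 θ2 β := by
  have add_self : ∀ a : F, a + a = 0 := CharTwo.add_self_eq_zero
  obtain ⟨θ1, m1, t1, s1⟩ := P.l1.exists_theta P.tt P.ss P.st hw0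
  obtain ⟨θ, m2', t2', s2'⟩ := P.l2.exists_theta P.tt P.ss P.st hw0
  have hm1 := P.br_mem m1 (P.l2.mem 1)
  have hm2 := P.br_mem (P.l1.mem 1) m2'
  -- `t`-conjugates
  have e1 : t * br θ1 (x2 1) * t = br θ1 (x2 1) * x3 1 := by
    rw [P.tbr, t1, Pair.tx' P.tt P.l2, P.mL m1 (P.l1.mem 1) (P.l2.mem 1), P.br_x, mul_one]
  have e2 : t * br (x1 1) θ * t = br (x1 1) θ * x3 1 := by
    rw [P.tbr, t2', Pair.tx' P.tt P.l1, P.mR (P.l1.mem 1) m2' (P.l2.mem 1), P.br_x, mul_one]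
  have f1 : s * br θ1 (x2 1) * s⁻¹ = br θ1 (x2 1) := by rw [conj_br, s1, P.l2.sx, map_one]
  have f2 : s * br (x1 1) θ * s⁻¹ = br (x1 1) θ := by rw [conj_br, s2', P.l1.sx, map_one]
  -- conversion: `t`-fixed elements
  have key : ∀ a ∈ W3, ∀ b ∈ W3, ∀ c : F, t * a * t = a * x3 c → t * b * t = b * x3 c →
      s * a * s⁻¹ = a → s * b * s⁻¹ = b → ∃ η, a⁻¹ * b = x3 η ∧ σ η = η := by
    intro a ha b hb c hac hbc hsa hsb
    have ti : t⁻¹ = t := inv_eq_of_mul_eq_one_left P.tt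
    have h1 : t * (a⁻¹ * b) * t = a⁻¹ * b := by
      calc t * (a⁻¹ * b) * t = t * a⁻¹ * (t * t) * b * t := by rw [P.tt]; group
        _ = (t⁻¹ * a⁻¹ * t⁻¹) * (t * b * t) := by rw [ti]; group
        _ = (t * a * t)⁻¹ * (t * b * t) := by group
        _ = (a * x3 c)⁻¹ * (b * x3 c) := by rw [hac, hbc]
        _ = (x3 c)⁻¹ * (a⁻¹ * b) * x3 c := by group
        _ = (x3 c)⁻¹ * (x3 c * (a⁻¹ * b)) := by
          rw [mul_assoc, P.l3.comm (mul_mem (inv_mem ha) hb) (P.l3.mem c)]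
        _ = a⁻¹ * b := by group
    obtain ⟨η, hη⟩ := P.l3.cent (a⁻¹ * b) (mul_mem (inv_mem ha) hb) (by
      calc t * (a⁻¹ * b) = t * (a⁻¹ * b) * (t * t) := by rw [P.tt, mul_one]
        _ = (t * (a⁻¹ * b) * t) * t := by group
        _ = a⁻¹ * b * t := by rw [h1])
    refine ⟨η, hη, P.l3.xinj ?_⟩
    rw [← P.l3.sx, ← hη]
    calc s * (a⁻¹ * b) * s⁻¹ = (s * a * s⁻¹)⁻¹ * (s * b * s⁻¹) := by group
      _ = a⁻¹ * b := by rw [hsa, hsb]
  obtain ⟨η, hη, hση⟩ := key _ hm2 _ hm1 1 e2 e1 f2 f1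
  set θ2 := θ * x2 η with hθ2
  have m2 : θ2 ∈ W2 := mul_mem m2' (P.l2.mem η)
  have t2 : t * θ2 * t = θ2 * x2 1 := by
    calc t * θ2 * t = t * θ * (t * t) * x2 η * t := by rw [P.tt, hθ2]; group
      _ = (t * θ * t) * (t * x2 η * t) := by group
      _ = θ * (x2 1 * x2 η) := by rw [t2', Pair.tx' P.tt P.l2]; group
      _ = θ * (x2 η * x2 1) := by rw [P.l2.comm (P.l2.mem _) (P.l2.mem _)]
      _ = _ := by rw [hθ2]; group
  have s2 : s * θ2 * s⁻¹ = θ2 := by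
    calc s * θ2 * s⁻¹ = (s * θ * s⁻¹) * (s * x2 η * s⁻¹) := by rw [hθ2]; group
      _ = θ2 := by rw [s2', P.l2.sx, hση]
  have sym1 : br θ1 (x2 1) = br (x1 1) θ2 := by
    rw [hθ2, P.mR (P.l1.mem 1) m2' (P.l2.mem η), P.br_x, one_mul, ← hη, mul_inv_cancel_left]
  have sym : ∀ l, br θ1 (x2 l) = br (x1 l) θ2 := by
    intro l
    by_cases hl : l = 0
    · rw [hl, P.l1.zero, P.l2.zero]
      unfold br; group
    · obtain ⟨h, h', c1, d2, c2, d1, c3⟩ := P.torus l hl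
      have h1 : br θ1 (x2 l) = h * br θ1 (x2 1) * h⁻¹ := by rw [conj_br, c1 θ1 m1, d2, mul_one]
      have h2 : br (x1 l) θ2 = h' * br (x1 1) θ2 * h'⁻¹ := by rw [conj_br, c2 θ2 m2, d1, mul_one]
      rw [h1, h2, ← sym1]
      exact c3 _ hm1
  -- the product of `θ1` and `θ2`
  have hm3 := P.br_mem m1 m2
  have e3 : t * br θ1 θ2 * t = br θ1 θ2 * x3 1 := by
    rw [P.tbr, t1, t2, P.mL m1 (P.l1.mem 1) (mul_mem m2 (P.l2.mem 1)), P.mR m1 m2 (P.l2.mem 1),
      P.mR (P.l1.mem 1) m2 (P.l2.mem 1), ← sym1, P.br_x, mul_one]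
    calc br θ1 θ2 * br θ1 (x2 1) * (br θ1 (x2 1) * x3 1)
        = br θ1 θ2 * (br θ1 (x2 1) * br θ1 (x2 1)) * x3 1 := by group
      _ = br θ1 θ2 * x3 1 := by rw [P.l3.sq _ hm1, mul_one]
  have f3 : s * br θ1 θ2 * s⁻¹ = br θ1 θ2 := by rw [conj_br, s1, s2]
  obtain ⟨β, hβ, hσβ⟩ := key _ hm1 _ hm3 1 e1 e3 f1 f3
  have hmul : br θ1 θ2 = br θ1 (x2 1) * x3 β := by rw [← hβ, mul_inv_cancel_left]
  exact ⟨θ1, θ2, β, ⟨P, m1, m2, t1, t2, s1, s2, sym, hmul, hσβ⟩⟩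

namespace Coord

variable {t s : G} {σ : F →+* F} {x1 x2 x3 : F → G} {W1 W2 W3 : Subgroup G} {θ1 θ2 : G} {β : F}

theorem ts_conj (C : Coord t s σ x1 x2 x3 W1 W2 W3 θ1 θ2 β) (a : G) :
    (t * s) * a * (t * s)⁻¹ = t * (s * a * s⁻¹) * t := by
  have ti : t⁻¹ = t := inv_eq_of_mul_eq_one_left C.tt
  rw [mul_inv_rev, ti]; group

/-- **Zero divisors.** -/
theorem zero_div [Finite F] [CharP F 2] (C : Coord t s σ x1 x2 x3 W1 W2 W3 θ1 θ2 β) {w0 : F}
    (hw0 : w0 + σ w0 = 1) : ∃ v, (v = s ∨ v = t * s) ∧ ∃ y ∈ W1, ∃ w ∈ W2, v * y * v⁻¹ = y ∧ v * w * v⁻¹ = w ∧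
      v * x2 1 * v⁻¹ = x2 1 ∧ w ≠ 1 ∧ br y w = 1 ∧ br y (x2 1) ≠ 1 := by
  have add_self : ∀ a : F, a + a = 0 := CharTwo.add_self_eq_zero
  have P := C.toPair
  have hσw : σ w0 = w0 + 1 := by
    have h1 : σ w0 = w0 + (w0 + σ w0) := by rw [← add_assoc, add_self, zero_add]
    rw [h1, hw0]
  have hm1 := P.br_mem C.m1 (P.l2.mem 1)
  -- the product
  have hprod : ∀ a : F, β + (a * a + a) = 0 → br (θ1 * x1 a) (θ2 * x2 (a + 1)) = 1 := by
    intro a ha
    have ma := P.br_mem C.m1 (P.l2.mem a)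
    rw [P.mL C.m1 (P.l1.mem a) (mul_mem C.m2 (P.l2.mem _)), P.mR C.m1 C.m2 (P.l2.mem _),
      P.mR (P.l1.mem a) C.m2 (P.l2.mem _), ← C.sym, P.br_x, C.mul, P.l2.add, P.mR C.m1 (P.l2.mem a) (P.l2.mem 1)]
    set A := br θ1 (x2 1) with hA
    set B := br θ1 (x2 a) with hB
    have c1 : ∀ b : F, A * x3 b = x3 b * A := fun b => P.l3.comm hm1 (P.l3.mem b)
    have c2 : A * B = B * A := P.l3.comm hm1 ma
    have c3 : x3 β * B = B * x3 β := P.l3.comm (P.l3.mem β) ma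
    calc A * x3 β * (B * A) * (B * x3 (a * (a + 1)))
        = A * x3 β * B * (A * B) * x3 (a * (a + 1)) := by group
      _ = A * x3 β * B * (B * A) * x3 (a * (a + 1)) := by rw [c2]
      _ = A * x3 β * (B * B) * A * x3 (a * (a + 1)) := by group
      _ = A * (x3 β * A) * x3 (a * (a + 1)) := by rw [P.l3.sq _ ma]; group
      _ = A * (A * x3 β) * x3 (a * (a + 1)) := by rw [c1]
      _ = (A * A) * (x3 β * x3 (a * (a + 1))) := by group
      _ = x3 (β + a * (a + 1)) := by rw [P.l3.sq _ hm1, one_mul, P.l3.add]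
      _ = 1 := by rw [mul_add, mul_one, ha, P.l3.zero]
  -- non-commuting with `x2 1`
  have hne : ∀ a : F, br (θ1 * x1 a) (x2 1) ≠ 1 := by
    intro a h1
    have h2 : t * br (θ1 * x1 a) (x2 1) * t = 1 := by rw [h1, mul_one, P.tt]
    have h3 : br (θ1 * x1 a) (x2 1) = br θ1 (x2 1) * x3 a := by
      rw [P.mL C.m1 (P.l1.mem a) (P.l2.mem 1), P.br_x, mul_one]
    have h4 : t * br (θ1 * x1 a) (x2 1) * t = br (θ1 * x1 a) (x2 1) * x3 1 := by
      rw [P.tbr, Pair.tx' P.tt P.l2]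
      have h5 : t * (θ1 * x1 a) * t = (θ1 * x1 a) * x1 1 := by
        calc t * (θ1 * x1 a) * t = t * θ1 * (t * t) * x1 a * t := by rw [P.tt]; group
          _ = (t * θ1 * t) * (t * x1 a * t) := by group
          _ = θ1 * (x1 1 * x1 a) := by rw [C.t1, Pair.tx' P.tt P.l1]; group
          _ = θ1 * (x1 a * x1 1) := by rw [P.l1.comm (P.l1.mem _) (P.l1.mem _)]
          _ = _ := by group
      rw [h5, P.mL (mul_mem C.m1 (P.l1.mem a)) (P.l1.mem 1) (P.l2.mem 1), P.br_x, mul_one]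
    rw [h2, h1, one_mul] at h4
    exact one_ne_zero (P.l3.inj 1 h4.symm)
  have hwne : ∀ a : F, θ2 * x2 a ≠ 1 := by
    intro a h1
    have h5 : t * (θ2 * x2 a) * t = (θ2 * x2 a) * x2 1 := by
      calc t * (θ2 * x2 a) * t = t * θ2 * (t * t) * x2 a * t := by rw [P.tt]; group
        _ = (t * θ2 * t) * (t * x2 a * t) := by group
        _ = θ2 * (x2 1 * x2 a) := by rw [C.t2, Pair.tx' P.tt P.l2]; group
        _ = θ2 * (x2 a * x2 1) := by rw [P.l2.comm (P.l2.mem _) (P.l2.mem _)]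
        _ = _ := by group
    rw [h1, mul_one, P.tt, one_mul] at h5
    exact one_ne_zero (P.l2.inj 1 h5.symm)
  -- invariance
  have hs : ∀ {θ : G} {x : F → G} {W : Subgroup G} (l : Lay t s σ x W) (hsθ : s * θ * s⁻¹ = θ) (a : F),
      s * (θ * x a) * s⁻¹ = θ * x (σ a) := by
    intro θ x W l hsθ a
    calc s * (θ * x a) * s⁻¹ = (s * θ * s⁻¹) * (s * x a * s⁻¹) := by group
      _ = _ := by rw [hsθ, l.sx]
  have hts : ∀ {θ : G} {x : F → G} {W : Subgroup G} (l : Lay t s σ x W) (hsθ : s * θ * s⁻¹ = θ)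
      (htθ : t * θ * t = θ * x 1) (a : F), (t * s) * (θ * x a) * (t * s)⁻¹ = θ * x (1 + σ a) := by
    intro θ x W l hsθ htθ a
    rw [C.ts_conj, hs l hsθ]
    calc t * (θ * x (σ a)) * t = t * θ * (t * t) * x (σ a) * t := by rw [C.tt]; group
      _ = (t * θ * t) * (t * x (σ a) * t) := by group
      _ = θ * (x 1 * x (σ a)) := by rw [htθ, Pair.tx' C.tt l]; group
      _ = _ := by rw [l.add]
  obtain ⟨ε, hε, hcase⟩ := exists_eps σ hw0 C.hβ
  rcases hcase with hcase | hcase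
  · refine ⟨s, Or.inl rfl, θ1 * x1 ε, mul_mem C.m1 (P.l1.mem _), θ2 * x2 (ε + 1), mul_mem C.m2 (P.l2.mem _),
      ?_, ?_, ?_, hwne _, hprod ε ?_, hne ε⟩
    · rw [hs P.l1 C.s1, hε]
    · rw [hs P.l2 C.s2, map_add, hε, map_one]
    · rw [P.l2.sx, map_one]
    · rw [hcase, add_self]
  · refine ⟨t * s, Or.inr rfl, θ1 * x1 (w0 + ε), mul_mem C.m1 (P.l1.mem _), θ2 * x2 (w0 + ε + 1),
      mul_mem C.m2 (P.l2.mem _), ?_, ?_, ?_, hwne _, hprod _ ?_, hne _⟩
    · rw [hts P.l1 C.s1 C.t1, map_add, hε, hσw]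
      congr 2
      have : 1 + (w0 + 1 + ε) = w0 + ε + (1 + 1) := by ring
      rw [this, add_self, add_zero]
    · rw [hts P.l2 C.s2 C.t2, map_add, map_add, hε, hσw, map_one]
      congr 2
      have : 1 + (w0 + 1 + ε + 1) = w0 + ε + 1 + (1 + 1) := by ring
      rw [this, add_self, add_zero]
    · rw [C.ts_conj, P.l2.sx, map_one, Pair.tx' P.tt P.l2]
    · have : β + ((w0 + ε) * (w0 + ε) + (w0 + ε)) = (β + (w0 * w0 + w0)) + (ε * ε + ε) + (w0 * ε + w0 * ε) := by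
        ring
      rw [this, hcase, add_self, add_self, add_zero]

/-- every element of `W3` -/
theorem exists_rep [CharP F 2] (C : Coord t s σ x1 x2 x3 W1 W2 W3 θ1 θ2 β) {y : G} (hy : y ∈ W3) :
    ∃ a b : F, y = br θ1 (x2 b) * x3 a := by
  have P := C.toPair
  obtain ⟨b, hb⟩ := P.l3.brk y hy
  have hm := P.br_mem C.m1 (P.l2.mem b)
  have e1 : t * br θ1 (x2 b) * t = br θ1 (x2 b) * x3 b := by
    rw [P.tbr, C.t1, Pair.tx' P.tt P.l2, P.mL C.m1 (P.l1.mem 1) (P.l2.mem b), P.br_x, one_mul]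
  have hb' : t * y * t = y * x3 b := by rw [← hb, mul_inv_cancel_left]
  have ti : t⁻¹ = t := inv_eq_of_mul_eq_one_left P.tt
  obtain ⟨a, ha⟩ := P.l3.cent ((br θ1 (x2 b))⁻¹ * y) (mul_mem (inv_mem hm) hy) (by
    have h1 : t * ((br θ1 (x2 b))⁻¹ * y) * t = (br θ1 (x2 b))⁻¹ * y := by
      calc t * ((br θ1 (x2 b))⁻¹ * y) * t = t * (br θ1 (x2 b))⁻¹ * (t * t) * y * t := by rw [P.tt]; group
        _ = (t⁻¹ * (br θ1 (x2 b))⁻¹ * t⁻¹) * (t * y * t) := by rw [ti]; group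
        _ = (t * br θ1 (x2 b) * t)⁻¹ * (t * y * t) := by group
        _ = (br θ1 (x2 b) * x3 b)⁻¹ * (y * x3 b) := by rw [e1, hb']
        _ = (x3 b)⁻¹ * ((br θ1 (x2 b))⁻¹ * y) * x3 b := by group
        _ = (x3 b)⁻¹ * (x3 b * ((br θ1 (x2 b))⁻¹ * y)) := by
          rw [mul_assoc, P.l3.comm (mul_mem (inv_mem hm) hy) (P.l3.mem b)]
        _ = (br θ1 (x2 b))⁻¹ * y := by group
    calc t * ((br θ1 (x2 b))⁻¹ * y) = t * ((br θ1 (x2 b))⁻¹ * y) * (t * t) := by rw [P.tt, mul_one]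
      _ = (t * ((br θ1 (x2 b))⁻¹ * y) * t) * t := by group
      _ = _ := by rw [h1])
  exact ⟨a, b, by rw [← ha, mul_inv_cancel_left]⟩

/-- uniqueness -/
theorem rep_inj [CharP F 2] (C : Coord t s σ x1 x2 x3 W1 W2 W3 θ1 θ2 β) {a b a' b' : F}
    (h : br θ1 (x2 b) * x3 a = br θ1 (x2 b') * x3 a') : a = a' ∧ b = b' := by
  have P := C.toPair
  have e1 : ∀ a b : F, t * (br θ1 (x2 b) * x3 a) * t = (br θ1 (x2 b) * x3 a) * x3 b := by
    intro a b
    have e1 : t * br θ1 (x2 b) * t = br θ1 (x2 b) * x3 b := by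
      rw [P.tbr, C.t1, Pair.tx' P.tt P.l2, P.mL C.m1 (P.l1.mem 1) (P.l2.mem b), P.br_x, one_mul]
    calc t * (br θ1 (x2 b) * x3 a) * t = t * br θ1 (x2 b) * (t * t) * x3 a * t := by rw [P.tt]; group
      _ = (t * br θ1 (x2 b) * t) * (t * x3 a * t) := by group
      _ = br θ1 (x2 b) * (x3 b * x3 a) := by rw [e1, Pair.tx' P.tt P.l3]; group
      _ = br θ1 (x2 b) * (x3 a * x3 b) := by rw [P.l3.comm (P.l3.mem _) (P.l3.mem _)]
      _ = _ := by group
  have h1 : b = b' := by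
    have h2 := e1 a b
    rw [h, e1 a' b'] at h2
    exact (P.l3.xinj (mul_left_cancel h2)).symm
  subst h1
  exact ⟨P.l3.xinj (mul_left_cancel h), rfl⟩

/-- **Freeness.** -/
theorem free [CharP F 2] (C : Coord t s σ x1 x2 x3 W1 W2 W3 θ1 θ2 β) {w0 : F} (hw0 : w0 + σ w0 = 1) {v : G}
    (hv : v = s ∨ v = t * s) {y : G} (hy : y ∈ W3) (hvy : v * y * v⁻¹ = y) :
    ∃ c ∈ W3, v * c * v⁻¹ * c⁻¹ = y := by
  have add_self : ∀ a : F, a + a = 0 := CharTwo.add_self_eq_zero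
  have P := C.toPair
  have hσw : σ w0 = w0 + 1 := by
    have h1 : σ w0 = w0 + (w0 + σ w0) := by rw [← add_assoc, add_self, zero_add]
    rw [h1, hw0]
  obtain ⟨a, b, rfl⟩ := C.exists_rep hy
  have hsr : ∀ a b : F, s * (br θ1 (x2 b) * x3 a) * s⁻¹ = br θ1 (x2 (σ b)) * x3 (σ a) := by
    intro a b
    calc s * (br θ1 (x2 b) * x3 a) * s⁻¹ = (s * br θ1 (x2 b) * s⁻¹) * (s * x3 a * s⁻¹) := by group
      _ = _ := by rw [conj_br, C.s1, P.l2.sx, P.l3.sx]
  have htr : ∀ a b : F, t * (br θ1 (x2 b) * x3 a) * t = br θ1 (x2 b) * x3 (a + b) := by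
    intro a b
    have e1 : t * br θ1 (x2 b) * t = br θ1 (x2 b) * x3 b := by
      rw [P.tbr, C.t1, Pair.tx' P.tt P.l2, P.mL C.m1 (P.l1.mem 1) (P.l2.mem b), P.br_x, one_mul]
    calc t * (br θ1 (x2 b) * x3 a) * t = t * br θ1 (x2 b) * (t * t) * x3 a * t := by rw [P.tt]; group
      _ = (t * br θ1 (x2 b) * t) * (t * x3 a * t) := by group
      _ = br θ1 (x2 b) * (x3 b * x3 a) := by rw [e1, Pair.tx' P.tt P.l3]; group
      _ = _ := by rw [← P.l3.add, add_comm b a]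
  have hadd : ∀ a b a' b' : F, (br θ1 (x2 b) * x3 a) * (br θ1 (x2 b') * x3 a')⁻¹ =
      br θ1 (x2 (b + b')) * x3 (a + a') := by
    intro a b a' b'
    have m := P.br_mem C.m1 (P.l2.mem b)
    have m' := P.br_mem C.m1 (P.l2.mem b')
    rw [P.l3.inv_eq (mul_mem m' (P.l3.mem a')), P.l2.add, P.mR C.m1 (P.l2.mem b) (P.l2.mem b'), P.l3.add]
    calc br θ1 (x2 b) * x3 a * (br θ1 (x2 b') * x3 a') = br θ1 (x2 b) * (x3 a * br θ1 (x2 b')) * x3 a' := by group
      _ = br θ1 (x2 b) * (br θ1 (x2 b') * x3 a) * x3 a' := by rw [P.l3.comm (P.l3.mem a) m']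
      _ = _ := by group
  have hmem : ∀ a b : F, br θ1 (x2 b) * x3 a ∈ W3 := fun a b =>
    mul_mem (P.br_mem C.m1 (P.l2.mem b)) (P.l3.mem a)
  refine ⟨br θ1 (x2 (w0 * b)) * x3 (w0 * a), hmem _ _, ?_⟩
  rcases hv with rfl | rfl
  · rw [hsr] at hvy
    obtain ⟨ha, hb⟩ := C.rep_inj hvy
    rw [hsr, hadd, map_mul, map_mul, ha, hb, hσw]
    congr 3
    · have : (w0 + 1) * b + w0 * b = b + (w0 * b + w0 * b) := by ring
      rw [this, add_self, add_zero]
    · have : (w0 + 1) * a + w0 * a = a + (w0 * a + w0 * a) := by ring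
      rw [this, add_self, add_zero]
  · rw [C.ts_conj, hsr, htr] at hvy
    obtain ⟨ha, hb⟩ := C.rep_inj hvy
    rw [C.ts_conj, hsr, htr, hadd, map_mul, map_mul, hσw, hb]
    have hσa : σ a = a + b := by
      have : σ a = (σ a + σ b) + b := by rw [hb, add_assoc, add_self, add_zero]
      rw [this, ha]
    rw [hσa]
    congr 3
    · have : (w0 + 1) * b + w0 * b = b + (w0 * b + w0 * b) := by ring
      rw [this, add_self, add_zero]
    · have : (w0 + 1) * (a + b) + (w0 + 1) * b + w0 * a =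
          a + (w0 * a + w0 * a) + (w0 * b + w0 * b) + (b + b) := by ring
      rw [this, add_self, add_self, add_self, add_zero, add_zero, add_zero]

end Coord

end Cfsg.Agent.OddHalf.Out.ZeroDiv
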