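import Cfsg.Agent.OddHalf.SL.Bridge
import Cfsg.Agent.OddHalf.Out.Grow

/-!
# The growth data of a doubled simply laced root system

(The construction is the one in `SL/Bridge.lean`.)
-/

set_option autoImplicit false

namespace Cfsg.Agent.OddHalf.Out.Enum

open Cfsg.Agent.Doubling Cfsg.Agent.Doubling.Growth Cfsg.Agent.OddHalf.SL

variable {G : Type*} [Group G] {L : Type*} [AddCommGroup L]

theorem exists_growth {t : G} {B : L → L → ℤ} {Φ : Set L} {X W : L → Subgroup G} (hΦ : Defs.Roots B Φ)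
    (D : Defs.Dbl t B Φ X W) (ht : L →+ ℤ)
    (dir : ∀ a ∈ Φ, 0 < ht a → X a ⊓ (⨆ b : L, ⨆ _ : b ∈ Φ ∧ ht a ≤ ht b ∧ b ≠ a, X b) = ⊥) :
    ∃ (l : ℕ → L) (n : ℕ), (∀ i < n, l i ∈ Φ ∧ 0 < ht (l i)) ∧ (∀ a ∈ Φ, 0 < ht a → ∃ i < n, l i = a) ∧
      Growth.Dbl t (fun i => W (l i)) (fun i => X (l i)) n := by
  classical
  set P : Finset L := hΦ.fin.toFinset.filter (fun a => 0 < ht a) with hP
  have hmemP : ∀ a, a ∈ P ↔ a ∈ Φ ∧ 0 < ht a := fun a => by
    rw [hP, Finset.mem_filter, Set.Finite.mem_toFinset]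
  obtain ⟨l, hl1, hl2, hl3, hl4⟩ := Bridge.exists_enum (fun a => ht a) P
  have hΦ' : ∀ i < P.card, l i ∈ Φ := fun i hi => ((hmemP _).1 (hl1 i hi)).1
  have hht : ∀ i < P.card, 0 < ht (l i) := fun i hi => ((hmemP _).1 (hl1 i hi)).2
  refine ⟨l, P.card, fun i hi => ⟨hΦ' i hi, hht i hi⟩, fun a ha h0 => hl2 a ((hmemP a).2 ⟨ha, h0⟩), ?_⟩
  exact
    { tt := D.tt
      conj := fun i hi v hv => D.conj_t _ (hΦ' i hi) v hv
      sq := fun i hi v hv => D.sq _ (hΦ' i hi) v hv
      fix := fun i hi v hv h => by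
        refine (D.cent _ (hΦ' i hi) v hv).1 ?_
        calc t * v = t * v * (t * t) := by rw [D.tt, mul_one]
          _ = (t * v * t) * t := by group
          _ = v * t := by rw [h]
      X_le := fun i hi => D.XW _ (hΦ' i hi)
      X_fix := fun i hi v hv => by
        have h := (D.cent _ (hΦ' i hi) v (D.XW _ (hΦ' i hi) hv)).2 hv
        rw [h, mul_assoc, D.tt, mul_one]
      free := fun i hi v hv => by
        obtain ⟨w, hw, h⟩ := D.surj _ (hΦ' i hi) v hv
        have hww := D.sq _ (hΦ' i hi) w hw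
        have hwi : w⁻¹ = w := inv_eq_of_mul_eq_one_left hww
        have htw := D.conj_t _ (hΦ' i hi) w hw
        have htt2 := D.sq _ (hΦ' i hi) _ htw
        refine ⟨w, hw, ?_⟩
        have hvv := D.sq _ (hΦ' i hi) v (D.XW _ (hΦ' i hi) hv)
        have hvi : v⁻¹ = v := inv_eq_of_mul_eq_one_left hvv
        have hti : (t * w * t)⁻¹ = t * w * t := inv_eq_of_mul_eq_one_left htt2
        calc v = v⁻¹ := hvi.symm
          _ = (w⁻¹ * (t * w * t))⁻¹ := by rw [h]
          _ = (t * w * t)⁻¹ * w := by group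
          _ = (t * w * t) * w := by rw [hti]
          _ = t * w * t * w⁻¹ := by rw [hwi]
      comm := fun i j hij hj v hv w hw => by
        have hi := hij.trans hj
        rcases lt_or_ge (B (l i) (l j)) 0 with hB | hB
        · have hB2 : B (l i) (l j) = -1 := by
            have h1 := hΦ.le _ (hΦ.neg_mem _ (hΦ' i hi)) _ (hΦ' j hj)
            rw [hΦ.neg_left] at h1
            have h2 : B (l i) (l j) ≠ -2 := by
              intro h3
              have h4 := hΦ.eq_neg (hΦ' i hi) (hΦ' j hj) h3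
              have h5 := hht i hi
              rw [h4, map_neg] at h5
              have h6 := hht j hj
              omega
            omega
          have hmem := D.neg _ (hΦ' i hi) _ (hΦ' j hj) hB2 v hv w hw
          have hs : l i + l j ∈ P := (hmemP _).2 ⟨hΦ.add _ (hΦ' i hi) _ (hΦ' j hj) hB2, by
            rw [map_add]; have := hht i hi; have := hht j hj; omega⟩
          obtain ⟨k, hk, hkl⟩ := hl2 _ hs
          have hki : k < i := by
            by_contra hc
            have h1 : ht (l k) ≤ ht (l i) := hl4 i k (not_lt.1 hc) hk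
            rw [hkl, map_add] at h1
            have := hht j hj
            omega
          rw [← hkl] at hmem
          exact le_W (fun i => W (l i)) hki hmem
        · have h := D.pos _ (hΦ' i hi) _ (hΦ' j hj) hB v hv w hw
          have h1 : v * w * v⁻¹ * w⁻¹ = 1 := by rw [h]; group
          rw [h1]; exact one_mem _
      indep := fun k hk => by
        rw [eq_bot_iff]
        refine le_trans (inf_le_inf_left _ ?_) (dir _ (hΦ' k hk) (hht k hk)).le
        refine iSup₂_le fun i hi => ?_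
        refine le_iSup₂_of_le (f := fun b (_ : b ∈ Φ ∧ ht (l k) ≤ ht b ∧ b ≠ l k) => X b) (l i)
          ⟨hΦ' i (hi.trans hk), ?_, ?_⟩ le_rfl
        · exact hl4 i k hi.le hk
        · intro h
          exact absurd (hl3 i k (hi.trans hk) hk h) hi.ne }

theorem W_eq {Φ : Set L} {ht : L →+ ℤ} {l : ℕ → L} {n : ℕ} (h1 : ∀ i < n, l i ∈ Φ ∧ 0 < ht (l i))
    (h2 : ∀ a ∈ Φ, 0 < ht a → ∃ i < n, l i = a) (Y : L → Subgroup G) :
    Growth.W (fun i => Y (l i)) n = Bridge.pos ht Φ Y := by
  apply le_antisymm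
  · exact iSup₂_le fun i hi => Bridge.le_pos (h1 i hi).1 (h1 i hi).2
  · refine iSup₂_le fun a ha => ?_
    obtain ⟨i, hi, rfl⟩ := h2 a ha.1 ha.2
    exact le_W (fun i => Y (l i)) hi

end Cfsg.Agent.OddHalf.Out.Enum
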