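import Cfsg.Agent.OddHalf.Out.ZeroDiv
import Cfsg.Agent.OddHalf.F4.EndOut

/-!
# The end for a fully doubled `U*` with an outer 2-part of field type, `K`-free

`T = ⟨t⟩ U ⟨f⟩`, `s` the involution of `⟨f⟩`; `W1, W2, W3` the doubles of three root groups of type `A₂`, `U* = W2 M`,
`M` centralises `W1`. Then one of the two types `s`, `t s` is not conjugate to `t` (`ZeroDiv`, `Exclude`), and `t` is
not in the commutator subgroup (`EndOut.not_mem_commutator`).
-/

set_option autoImplicit false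

namespace Cfsg.Agent.OddHalf.Out.FieldEnd

open Subgroup Cfsg.Agent.OddHalf.Out.ZeroDiv

variable {G : Type*} [Group G] {F : Type*} [Field F]

/-- the fixed field is small -/
theorem card_fix_sq [Finite F] [CharP F 2] (σ : F →+* F) (h2 : ∀ a, σ (σ a) = a) {w0 : F} (hw0 : w0 + σ w0 = 1) :
    Nat.card {a : F // σ a = a} ^ 2 = Nat.card F := by
  let θ : F →+ F := AddMonoidHom.id F + (σ : F →+ F)
  have hθ : ∀ x, θ x = x + σ x := fun x => rfl
  have hk : ∀ x : F, x + σ x = 0 ↔ σ x = x := by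
    intro x
    rw [add_eq_zero_iff_eq_neg, CharTwo.neg_eq, eq_comm]
  have hker' : θ.ker = θ.range := by
    ext x
    rw [AddMonoidHom.mem_ker, AddMonoidHom.mem_range, hθ, hk]
    constructor
    · intro hx
      refine ⟨x * w0, ?_⟩
      rw [hθ, map_mul, hx, ← mul_add, hw0, mul_one]
    · rintro ⟨y, rfl⟩
      rw [hθ, map_add, h2, add_comm]
  have h1 := AddSubgroup.card_eq_card_quotient_mul_card_addSubgroup θ.ker
  have h3 : Nat.card (F ⧸ θ.ker) = Nat.card θ.range :=
    Nat.card_congr (QuotientAddGroup.quotientKerEquivRange θ).toEquiv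
  have h4 : Nat.card {a : F // σ a = a} = Nat.card θ.ker := by
    apply Nat.card_congr
    exact Equiv.subtypeEquivRight fun a => by rw [AddMonoidHom.mem_ker, hθ, hk]
  rw [h4, h1, h3, ← hker', pow_two]

/-- `|C_W(v)| ≤ q` for `v = s`, `t s` -/
theorem Lay.card_fix_le [Finite G] [Finite F] [CharP F 2] {t s : G} {σ : F →+* F} {x : F → G} {W : Subgroup G}
    (h : Lay t s σ x W) (tt : t * t = 1) (ss : s * s = 1) (st : s * t = t * s) (h2 : ∀ a, σ (σ a) = a) {w0 : F}
    (hw0 : w0 + σ w0 = 1) {v : G} (hv : v = s ∨ v = t * s) :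
    Nat.card (W ⊓ centralizer ({v} : Set G) : Subgroup G) ≤ Nat.card F := by
  classical
  set D : Subgroup G := W ⊓ centralizer ({v} : Set G) with hD
  have ti : t⁻¹ = t := inv_eq_of_mul_eq_one_left tt
  choose b hb using fun w : D => h.brk w w.2.1
  -- `b` is a homomorphism
  have hxc : ∀ (a : F) (w : D), (w : G) * x a = x a * w := fun a w => h.comm w.2.1 (h.mem a)
  have hbt : ∀ w : D, t * (w : G) * t = w * x (b w) := fun w => by rw [← hb w, mul_inv_cancel_left]
  let f : D →* Multiplicative F :=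
    { toFun := fun w => Multiplicative.ofAdd (b w)
      map_one' := by
        have h1 := hbt 1
        rw [Subgroup.coe_one, mul_one, tt, one_mul] at h1
        have h3 : b 1 = 0 := h.inj _ h1.symm
        show Multiplicative.ofAdd (b 1) = 1
        rw [h3]; rfl
      map_mul' := by
        intro w w'
        have h1 : x (b (w * w')) = x (b w + b w') := by
          rw [h.add]
          have h3 := hbt (w * w')
          rw [Subgroup.coe_mul] at h3
          have h4 : t * ((w : G) * w') * t = (t * w * t) * (t * w' * t) := by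
            calc t * ((w : G) * w') * t = t * w * (t * t) * w' * t := by rw [tt]; group
              _ = _ := by group
          rw [h4, hbt w, hbt w'] at h3
          have h5 : (w : G) * x (b w) * (w' * x (b w')) = w * w' * (x (b w) * x (b w')) := by
            calc (w : G) * x (b w) * (w' * x (b w')) = w * (x (b w) * w') * x (b w') := by group
              _ = w * (w' * x (b w)) * x (b w') := by rw [← hxc]
              _ = _ := by group
          rw [h5] at h3
          exact (mul_left_cancel h3).symm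
        show Multiplicative.ofAdd (b (w * w')) = Multiplicative.ofAdd (b w) * Multiplicative.ofAdd (b w')
        rw [h.xinj h1]; rfl }
  have hf : ∀ w, (f w).toAdd = b w := fun w => rfl
  -- action of `v` on `x a`
  have hvx : ∀ a, v * x a * v⁻¹ = x (σ a) := by
    intro a
    rcases hv with rfl | rfl
    · exact h.sx a
    · have h1 : t * s * x a * (t * s)⁻¹ = t * (s * x a * s⁻¹) * t := by
        rw [mul_inv_rev, ti]; group
      rw [h1, h.sx, h.tx, mul_assoc, tt, mul_one]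
  have hvt : v * t = t * v := by
    rcases hv with rfl | rfl
    · exact st
    · rw [mul_assoc, st]
  -- values of `b` are fixed
  have hbσ : ∀ w : D, σ (b w) = b w := by
    intro w
    have hwv : (w : G) * v = v * w := mem_centralizer_singleton_iff.1 w.2.2
    have h1 := hbt w
    have h3 : v * (t * (w : G) * t) * v⁻¹ = t * w * t := by
      have e : v * (w : G) * v⁻¹ = w := by rw [← hwv]; group
      have hvt' : t * v⁻¹ = v⁻¹ * t := by
        calc t * v⁻¹ = v⁻¹ * (v * t) * v⁻¹ := by group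
          _ = v⁻¹ * (t * v) * v⁻¹ := by rw [hvt]
          _ = v⁻¹ * t := by group
      calc v * (t * (w : G) * t) * v⁻¹ = (v * t) * w * (t * v⁻¹) := by group
        _ = (t * v) * w * (v⁻¹ * t) := by rw [hvt, hvt']
        _ = t * (v * w * v⁻¹) * t := by group
        _ = t * w * t := by rw [e]
    rw [h1] at h3
    have h4 : v * ((w : G) * x (b w)) * v⁻¹ = w * x (σ (b w)) := by
      have e : v * (w : G) * v⁻¹ = w := by rw [← hwv]; group
      calc v * ((w : G) * x (b w)) * v⁻¹ = (v * w * v⁻¹) * (v * x (b w) * v⁻¹) := by group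
        _ = _ := by rw [e, hvx]
    rw [h4] at h3
    exact h.xinj (mul_left_cancel h3)
  -- the kernel
  have hker : Nat.card f.ker ≤ Nat.card {a : F // σ a = a} := by
    have hex : ∀ w : f.ker, ∃ a : F, ((w : D) : G) = x a := by
      intro w
      have h1 : b w = 0 := by rw [← hf]; exact congrArg Multiplicative.toAdd w.2
      have h3 := hbt w
      rw [h1, h.zero, mul_one] at h3
      apply h.cent _ (w : D).2.1
      calc t * ((w : D) : G) = t * w * (t * t) := by rw [tt, mul_one]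
        _ = (t * w * t) * t := by group
        _ = w * t := by rw [h3]
    choose c hc using hex
    refine Nat.card_le_card_of_injective (fun w : f.ker => (⟨c w, ?_⟩ : {a : F // σ a = a})) ?_
    · have hwv : ((w : D) : G) * v = v * w := mem_centralizer_singleton_iff.1 (w : D).2.2
      apply h.xinj
      rw [← hvx, ← hc w, ← hwv]; group
    · intro w w' hww
      have h1 : c w = c w' := congrArg Subtype.val hww
      apply Subtype.ext
      apply Subtype.ext
      rw [hc w, hc w', h1]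
  have hrange : Nat.card f.range ≤ Nat.card {a : F // σ a = a} := by
    refine Nat.card_le_card_of_injective (fun y : f.range => (⟨(y : Multiplicative F).toAdd, ?_⟩ :
      {a : F // σ a = a})) ?_
    · obtain ⟨w, hw⟩ := y.2
      rw [← hw, hf]
      exact hbσ w
    · intro y y' h1
      apply Subtype.ext
      have h2 : (y : Multiplicative F).toAdd = (y' : Multiplicative F).toAdd := Subtype.mk.inj h1
      exact Multiplicative.toAdd.injective h2
  have h1 := f.ker.card_eq_card_quotient_mul_card_subgroup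
  have h3 : Nat.card (D ⧸ f.ker) = Nat.card f.range :=
    Nat.card_congr (QuotientGroup.quotientKerEquivRange f).toEquiv
  rw [h1, h3, ← card_fix_sq σ h2 hw0, pow_two]
  exact Nat.mul_le_mul hrange hker

/-- The data of the end. -/
structure Data (t s : G) (T U Us : Subgroup G) (σ : F →+* F) (x1 x2 x3 : F → G) (W1 W2 W3 M Z Zs : Subgroup G) :
    Prop where
  fr : Exclude.Fr t T U Us
  pair : Pair t s σ x1 x2 x3 W1 W2 W3
  htU : t ∉ Us
  sT : s ∈ T
  sU : s ∉ Us
  tsU : t * s ∉ Us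
  σ2 : ∀ a, σ (σ a) = a
  σ1 : ∃ a, σ a ≠ a
  W1U : W1 ≤ Us
  W2U : W2 ≤ Us
  W3U : W3 ≤ Us
  MU : M ≤ Us
  c3 : ∀ w ∈ W3, ∀ u ∈ Us, w * u = u * w
  /-- `U* = W₂ M` -/
  dec : ∀ u ∈ Us, ∃ w ∈ W2, ∃ m ∈ M, u = w * m
  ind : ∀ w ∈ W2, w ∈ M → w = 1
  tM : ∀ m ∈ M, t * m * t ∈ M
  sM : ∀ m ∈ M, s * m * s⁻¹ ∈ M
  cM : ∀ m ∈ M, ∀ w ∈ W1, m * w = w * m
  /-- involutions of `T / U` -/
  inv : ∀ d ∈ T, d * d ∈ U → d ∈ U ∨ t * d ∈ U ∨ s * d ∈ U ∨ t * s * d ∈ U
  ct : ∀ u ∈ Us, (t * u) * (t * u) = 1 → ∃ k ∈ Us, t * u = k * t * k⁻¹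
  cs : ∀ u ∈ Us, (s * u) * (s * u) = 1 → ∃ k ∈ Us, s * u = k * s * k⁻¹
  cts : ∀ u ∈ Us, (t * s * u) * (t * s * u) = 1 → ∃ k ∈ Us, t * s * u = k * (t * s) * k⁻¹
  ZsU : Zs ≤ Us
  Zc : ∀ z ∈ Zs, ∀ w ∈ Us, z * w = w * z
  k0 : ∀ z ∈ Zs, ∀ g : G, g⁻¹ * t * g ≠ z
  k0' : ∀ z ∈ Z, ∃ g : G, g⁻¹ * t * g = t * z
  hcard : Nat.card Z ≤ Nat.card (Zs ⊓ centralizer ({s} : Set G) : Subgroup G)
  hcard' : Nat.card Z ≤ Nat.card (Zs ⊓ centralizer ({t * s} : Set G) : Subgroup G)
  k1 : ∀ c ∈ T, (∀ a ∈ T, ∀ b ∈ T, c * (a * b * a⁻¹ * b⁻¹) = a * b * a⁻¹ * b⁻¹ * c) → c ∈ Z ∨ t * c ∈ Z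
  k2 : ∀ c ∈ T, (∀ z ∈ Z, c * z = z * c) → c ∈ U ∨ t * c ∈ U
  k3 : ∀ u ∈ U, (∃ c ∈ U, c * u ≠ u * c) → Nat.card F ≤ Set.ncard {x | ∃ c ∈ U, x = c * u * c⁻¹}

variable {t s : G} {T U Us : Subgroup G} {σ : F →+* F} {x1 x2 x3 : F → G} {W1 W2 W3 M Z Zs : Subgroup G}

/-- the few conjugates -/
theorem Data.few [Finite G] [Finite F] [CharP F 2] (D : Data t s T U Us σ x1 x2 x3 W1 W2 W3 M Z Zs) {w0 : F}
    (hw0 : w0 + σ w0 = 1) {v y w : G} (hv : v = s ∨ v = t * s) (hy : y ∈ W1) (hw : w ∈ W2)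
    (hwv : v * w * v⁻¹ = w) (hw1 : w ≠ 1) (hyw : br y w = 1) :
    Set.ncard {x | ∃ c ∈ Us, c * v = v * c ∧ x = c * y * c⁻¹} < Nat.card F := by
  classical
  have P := D.pair
  have ti : t⁻¹ = t := inv_eq_of_mul_eq_one_left P.tt
  set E : Subgroup G := W2 ⊓ centralizer ({v} : Set G) with hE
  have hcard := Lay.card_fix_le P.l2 P.tt P.ss P.st D.σ2 hw0 hv
  rw [← hE] at hcard
  -- `v` normalises `W2` and `M`
  have vW : ∀ a ∈ W2, v * a * v⁻¹ ∈ W2 := by
    intro a ha
    rcases hv with rfl | rfl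
    · exact P.l2.sW a ha
    · have e : t * s * a * (t * s)⁻¹ = t * (s * a * s⁻¹) * t := by rw [mul_inv_rev, ti]; group
      rw [e]
      exact P.l2.conj_t _ (P.l2.sW a ha)
  have vM : ∀ a ∈ M, v * a * v⁻¹ ∈ M := by
    intro a ha
    rcases hv with rfl | rfl
    · exact D.sM a ha
    · have e : t * s * a * (t * s)⁻¹ = t * (s * a * s⁻¹) * t := by rw [mul_inv_rev, ti]; group
      rw [e]
      exact D.tM _ (D.sM a ha)
  have hsub : {x | ∃ c ∈ Us, c * v = v * c ∧ x = c * y * c⁻¹} ⊆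
      Set.range (fun a : E => (a : G) * y * (a : G)⁻¹) := by
    rintro x ⟨c, hc, hcv, rfl⟩
    obtain ⟨a, ha, m, hm, rfl⟩ := D.dec c hc
    have h1 : v * a * v⁻¹ = a := by
      have h2 : v * (a * m) * v⁻¹ = a * m := by rw [← hcv]; group
      have h3 : a⁻¹ * (v * a * v⁻¹) = m * (v * m * v⁻¹)⁻¹ := by
        have h4 : (v * a * v⁻¹) * (v * m * v⁻¹) = a * m := by rw [← h2]; group
        calc a⁻¹ * (v * a * v⁻¹) = a⁻¹ * ((v * a * v⁻¹) * (v * m * v⁻¹)) * (v * m * v⁻¹)⁻¹ := by group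
          _ = _ := by rw [h4]; group
      have h4 := D.ind _ (mul_mem (inv_mem ha) (vW a ha)) (by
        rw [h3]; exact mul_mem hm (inv_mem (vM m hm)))
      exact (inv_mul_eq_one.1 h4).symm
    have h2 : a ∈ E := ⟨ha, mem_centralizer_singleton_iff.2 (by
      calc a * v = (v * a * v⁻¹) * v := by rw [h1]
        _ = v * a := by group)⟩
    refine ⟨⟨a, h2⟩, ?_⟩
    show a * y * a⁻¹ = a * m * y * (a * m)⁻¹
    have := D.cM m hm y hy
    calc a * y * a⁻¹ = a * (y * m) * m⁻¹ * a⁻¹ := by group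
      _ = a * (m * y) * m⁻¹ * a⁻¹ := by rw [this]
      _ = _ := by group
  have hwE : w ∈ E := ⟨hw, mem_centralizer_singleton_iff.2 (by
    calc w * v = (v * w * v⁻¹) * v := by rw [hwv]
      _ = v * w := by group)⟩
  have hlt : Set.ncard (Set.range (fun a : E => (a : G) * y * (a : G)⁻¹)) < Nat.card E := by
    have h1 : ¬ Function.Injective (fun a : E => (a : G) * y * (a : G)⁻¹) := by
      intro hinj
      have h2 : (w : G) * y * w⁻¹ = (1 : G) * y * (1 : G)⁻¹ := by
        have h3 : y * w = w * y := by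
          have h4 : y * w * y⁻¹ * w⁻¹ = 1 := hyw
          rw [mul_inv_eq_one, mul_inv_eq_iff_eq_mul] at h4
          exact h4
        rw [← h3]; group
      have h3 : (⟨w, hwE⟩ : E) = 1 := hinj h2
      exact hw1 (congrArg Subtype.val h3)
    have := Fintype.ofFinite E
    rw [← Set.image_univ, ← Nat.card_congr (Equiv.Set.univ E)]
    change _ < Set.ncard (Set.univ : Set E)
    refine lt_of_le_of_ne (Set.ncard_image_le (Set.toFinite _)) fun h3 => h1 ?_
    rw [Set.ncard_image_iff (Set.toFinite _)] at h3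
    exact Set.injOn_univ.1 h3
  exact lt_of_le_of_lt (Set.ncard_le_ncard hsub (Set.toFinite _)) (lt_of_lt_of_le hlt hcard)

/-- **The end.** -/
theorem Data.not_mem_commutator [Finite G] [Finite F] [CharP F 2]
    (D : Data t s T U Us σ x1 x2 x3 W1 W2 W3 M Z Zs) : t ∉ _root_.commutator G := by
  classical
  have P := D.pair
  have ti : t⁻¹ = t := inv_eq_of_mul_eq_one_left P.tt
  obtain ⟨w0, hw0⟩ := exists_w0 σ D.σ2 D.σ1
  obtain ⟨θ1, θ2, β, C⟩ := P.exists_coord hw0
  obtain ⟨v, hv, y, hy, w, hw, hyv, hwv, hxv, hw1, hyw, hyx⟩ := C.zero_div hw0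
  have hfew := D.few hw0 hv hy hw hwv hw1 hyw
  have vUs : v ∉ Us := by
    rcases hv with rfl | rfl
    · exact D.sU
    · exact D.tsU
  have hyv' : y * v = v * y := by
    calc y * v = (v * y * v⁻¹) * v := by rw [hyv]
      _ = v * y := by group
  have hcardv : Nat.card Z ≤ Nat.card (Zs ⊓ centralizer ({v} : Set G) : Subgroup G) := by
    rcases hv with rfl | rfl
    · exact D.hcard
    · exact D.hcard'
  -- `v` is excluded
  have hexc : ∀ g : G, g⁻¹ * t * g = v → ¬ ∀ d ∈ T, g⁻¹ * d * g ∈ D.fr.S := by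
    intro g hgv hg
    refine Exclude.excluded D.fr vUs Z Zs D.ZsU D.Zc D.k0 D.k0' hcardv D.k1 D.k2 D.k3 (D.W1U hy) hyv'
      ⟨x2 1, D.W2U (P.l2.mem 1), ?_, ?_⟩ hfew hgv hg
    · calc x2 1 * v = (v * x2 1 * v⁻¹) * v := by rw [hxv]
        _ = v * x2 1 := by group
    · intro h
      apply hyx
      unfold br
      rw [← h]; group
  have conj_of : ∀ (g k v' : G), k ∈ Us → g⁻¹ * t * g = k * v' * k⁻¹ → (∀ d ∈ T, g⁻¹ * d * g ∈ D.fr.S) →
      (g * k)⁻¹ * t * (g * k) = v' ∧ ∀ d ∈ T, (g * k)⁻¹ * d * (g * k) ∈ D.fr.S := by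
    intro g k v' hk h hg
    constructor
    · calc (g * k)⁻¹ * t * (g * k) = k⁻¹ * (g⁻¹ * t * g) * k := by group
        _ = v' := by rw [h]; group
    · intro d hd
      have e : (g * k)⁻¹ * d * (g * k) = k⁻¹ * (g⁻¹ * d * g) * k := by group
      rw [e]
      exact mul_mem (mul_mem (inv_mem (D.fr.Us_le hk)) (hg d hd)) (D.fr.Us_le hk)
  have hsq : ∀ g : G, g⁻¹ * t * g * (g⁻¹ * t * g) = 1 := by
    intro g
    calc g⁻¹ * t * g * (g⁻¹ * t * g) = g⁻¹ * (t * t) * g := by group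
      _ = 1 := by rw [P.tt]; group
  -- the types
  have htypes : ∀ g : G, (∀ d ∈ T, g⁻¹ * d * g ∈ D.fr.S) →
      (g⁻¹ * t * g ∈ Us ∨ t * (g⁻¹ * t * g) ∈ Us ∨ s * (g⁻¹ * t * g) ∈ Us ∨ t * s * (g⁻¹ * t * g) ∈ Us) := by
    intro g hg
    obtain ⟨d, hd, w', hw', e⟩ := D.fr.mem_S.1 (hg t D.fr.tT)
    have h1 := hsq g
    rw [e] at h1
    have h2 : d * d ∈ U := by
      apply (D.fr.hU _).2
      refine ⟨?_, ?_⟩
      · have h5 : d * d = w'⁻¹ * (d⁻¹ * w'⁻¹ * d) := by
          have : d * d = d * w' * (d * w') * ((w'⁻¹ * (d⁻¹ * w'⁻¹ * d))) := by group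
          rw [h1, one_mul] at this
          exact this
        rw [h5]
        have h6 := D.fr.norm _ (inv_mem hd) _ (inv_mem hw')
        rw [inv_inv] at h6
        exact mul_mem (inv_mem hw') h6
      · have := D.fr.Tc _ (mul_mem hd hd)
        exact this
    have hle := D.fr.le
    rcases D.inv d hd h2 with h | h | h | h
    · left; rw [e]; exact mul_mem (hle h) hw'
    · right; left; rw [e, ← mul_assoc]; exact mul_mem (hle h) hw'
    · right; right; left; rw [e, ← mul_assoc]; exact mul_mem (hle h) hw'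
    · right; right; right; rw [e, ← mul_assoc]; exact mul_mem (hle h) hw'
  have sinv : s⁻¹ = s := inv_eq_of_mul_eq_one_left P.ss
  have tss : (t * s) * (t * s) = 1 := by
    calc (t * s) * (t * s) = t * (s * t) * s := by group
      _ = (t * t) * (s * s) := by rw [P.st]; group
      _ = 1 := by rw [P.tt, P.ss, one_mul]
  have tsinv : (t * s)⁻¹ = t * s := inv_eq_of_mul_eq_one_left tss
  -- membership in `s U*` and `t s U*`
  have ksU : ∀ g : G, s * (g⁻¹ * t * g) ∈ Us → ∃ k ∈ Us, g⁻¹ * t * g = k * s * k⁻¹ := by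
    intro g h
    obtain ⟨k, hk, e⟩ := D.cs _ h (by
      have e1 : s * (s * (g⁻¹ * t * g)) = g⁻¹ * t * g := by rw [← mul_assoc, P.ss, one_mul]
      rw [e1]; exact hsq g)
    rw [← mul_assoc, P.ss, one_mul] at e
    exact ⟨k, hk, e⟩
  have ktsU : ∀ g : G, t * s * (g⁻¹ * t * g) ∈ Us → ∃ k ∈ Us, g⁻¹ * t * g = k * (t * s) * k⁻¹ := by
    intro g h
    obtain ⟨k, hk, e⟩ := D.cts _ h (by
      have e1 : t * s * (t * s * (g⁻¹ * t * g)) = g⁻¹ * t * g := by rw [← mul_assoc, tss, one_mul]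
      rw [e1]; exact hsq g)
    rw [← mul_assoc, tss, one_mul] at e
    exact ⟨k, hk, e⟩
  have ktU : ∀ g : G, t * (g⁻¹ * t * g) ∈ Us → ∃ k ∈ Us, g⁻¹ * t * g = k * t * k⁻¹ := by
    intro g h
    obtain ⟨k, hk, e⟩ := D.ct _ h (by
      have e1 : t * (t * (g⁻¹ * t * g)) = g⁻¹ * t * g := by rw [← mul_assoc, P.tt, one_mul]
      rw [e1]; exact hsq g)
    rw [← mul_assoc, P.tt, one_mul] at e
    exact ⟨k, hk, e⟩
  have tS := D.fr.T_le D.fr.tT
  have sS := D.fr.T_le D.sT
  rcases hv with rfl | rfl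
  · -- `s` is excluded, `c = t s`
    refine F4.EndOut.not_mem_commutator D.fr D.htU (fun g _ h => ?_) (t * v) (mul_mem tS sS) ?_ fun g hg => ?_
    · obtain ⟨k, hk, e⟩ := ktU g h
      exact ⟨k, D.fr.Us_le hk, e⟩
    · rw [← mul_assoc, P.tt, one_mul]; exact D.sU
    · rw [tsinv]
      rcases htypes g hg with h | h | h | h
      · exact Or.inr (Or.inl h)
      · exact Or.inl h
      · exfalso
        obtain ⟨k, hk, e⟩ := ksU g h
        obtain ⟨e1, e2⟩ := conj_of g k v hk e hg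
        exact hexc _ e1 e2
      · exact Or.inr (Or.inr h)
  · -- `t s` is excluded, `c = s`
    refine F4.EndOut.not_mem_commutator D.fr D.htU (fun g _ h => ?_) s sS D.tsU fun g hg => ?_
    · obtain ⟨k, hk, e⟩ := ktU g h
      exact ⟨k, D.fr.Us_le hk, e⟩
    · rw [sinv]
      rcases htypes g hg with h | h | h | h
      · exact Or.inr (Or.inl h)
      · exact Or.inl h
      · exact Or.inr (Or.inr h)
      · exfalso
        obtain ⟨k, hk, e⟩ := ktsU g h
        obtain ⟨e1, e2⟩ := conj_of g k (t * s) hk e hg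
        exact hexc _ e1 e2

end Cfsg.Agent.OddHalf.Out.FieldEnd
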