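import Cfsg.Agent.OddHalf.Out.Exclude

/-!
# Involutions of graph type (ODD D7, `K = F₄(q)`, `q = 2^k`, `k` odd; helper84, bb ODD 11098 §4)

`s ∈ T` is an involution acting on `K` as a graph automorphism, `W₁` a doubled long simple root group, `W₂ = W₁ ^ s` the
doubled short simple root group at `135°`, `N` the third (long) doubled root group of the `B₂`, `W₃` the short one.

* `GP.main`: for `v = s` or for `v = t s` no `1 ≠ w ∈ W₁` has `[w, w^v] ∈ N`;
* `transport`, `excludedG`: `v` is not conjugate to `t` (in the sense of `Exclude.excluded`) if `U` is generated by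
  involutions and `C_{U*}(v)` is not.
-/

set_option autoImplicit false

namespace Cfsg.Agent.OddHalf.Out.Graph

open Subgroup Exclude

variable {G : Type*} [Group G]

/-- the commutator `a b a⁻¹ b⁻¹` -/
def br (a b : G) : G := a * b * a⁻¹ * b⁻¹

/-- A `B₂` with a graph involution. -/
structure GP {F : Type*} [Field F] (t s : G) (θ : F →+* F) (x1 x2 x3 : F → G) (W1 W2 W3 N : Subgroup G) : Prop where
  tt : t * t = 1
  ss : s * s = 1
  st : s * t = t * s
  /-- the long simple root -/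
  add1 : ∀ a b, x1 (a + b) = x1 a * x1 b
  mem1 : ∀ a, x1 a ∈ W1
  ab1 : ∀ a ∈ W1, ∀ b ∈ W1, a * b = b * a
  ht1 : ∀ w ∈ W1, ∃ a, t * w * t = w * x1 a
  fix1 : ∀ w ∈ W1, t * w * t = w → ∃ a, w = x1 a
  tx1 : ∀ a, t * x1 a * t = x1 a
  /-- the short simple root -/
  add2 : ∀ a b, x2 (a + b) = x2 a * x2 b
  sW : ∀ w ∈ W1, s * w * s ∈ W2
  sx : ∀ a, s * x1 a * s = x2 (θ a)
  /-- the third root -/
  add3 : ∀ a b, x3 (a + b) = x3 a * x3 b
  inj3 : ∀ a, x3 a ∈ N → a = 0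
  mem3 : ∀ a, x3 a ∈ W3
  rel : ∀ a b, (x3 (a * b))⁻¹ * br (x1 a) (x2 b) ∈ N
  brm : ∀ w ∈ W1, ∀ v ∈ W2, br w v ∈ W3 ⊔ N
  c13 : ∀ w ∈ W1, ∀ y ∈ W3 ⊔ N, w * y = y * w
  c23 : ∀ w ∈ W2, ∀ y ∈ W3 ⊔ N, w * y = y * w
  c33 : ∀ w ∈ W3 ⊔ N, ∀ y ∈ W3 ⊔ N, w * y = y * w
  tN : ∀ y ∈ N, t * y * t ∈ N
  /-- `2 θ² = 1` -/
  two : ∀ a, θ (θ a) * θ (θ a) = a
  /-- the torus -/
  tor : ∀ c : F, c ≠ 0 → ∃ h : G, h * t = t * h ∧ h * s = s * h ∧ (∀ w ∈ W1, h * w * h⁻¹ ∈ W1) ∧
    (∀ y ∈ N, h * y * h⁻¹ ∈ N) ∧ ∀ a, h * x1 a * h⁻¹ = x1 (c * a)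

namespace GP

variable {F : Type*} [Field F] {t s : G} {θ : F →+* F} {x1 x2 x3 : F → G} {W1 W2 W3 N : Subgroup G}

theorem conj_br (z a b : G) : z * br a b * z⁻¹ = br (z * a * z⁻¹) (z * b * z⁻¹) := by
  unfold br; group

theorem t_inv (P : GP t s θ x1 x2 x3 W1 W2 W3 N) : t⁻¹ = t := inv_eq_of_mul_eq_one_left P.tt

theorem s_inv (P : GP t s θ x1 x2 x3 W1 W2 W3 N) : s⁻¹ = s := inv_eq_of_mul_eq_one_left P.ss

theorem mul_left (P : GP t s θ x1 x2 x3 W1 W2 W3 N) {a a' v : G} (ha : a ∈ W1) (ha' : a' ∈ W1) (hv : v ∈ W2) :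
    br (a * a') v = br a v * br a' v := by
  have h1 : br (a * a') v = a * br a' v * a⁻¹ * br a v := by unfold br; group
  have h2 := P.c13 a ha _ (P.brm a' ha' v hv)
  have h3 := P.c33 _ (P.brm a ha v hv) _ (P.brm a' ha' v hv)
  rw [h1, h2, mul_inv_cancel_right, h3]

theorem mul_right (P : GP t s θ x1 x2 x3 W1 W2 W3 N) {a v v' : G} (ha : a ∈ W1) (hv : v ∈ W2) (hv' : v' ∈ W2) :
    br a (v * v') = br a v * br a v' := by
  have h1 : br a (v * v') = br a v * (v * br a v' * v⁻¹) := by unfold br; group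
  have h2 := P.c23 v hv _ (P.brm a ha v' hv')
  rw [h1, h2, mul_inv_cancel_right]

theorem mem2 (P : GP t s θ x1 x2 x3 W1 W2 W3 N) (h2 : ∀ b, ∃ a, θ a = b) (b : F) : x2 b ∈ W2 := by
  obtain ⟨a, rfl⟩ := h2 b
  rw [← P.sx]
  exact P.sW _ (P.mem1 a)

theorem surj (P : GP t s θ x1 x2 x3 W1 W2 W3 N) (b : F) : ∃ a, θ a = b := by
  refine ⟨θ (b * b), ?_⟩
  have h1 := P.two b
  rw [map_mul, map_mul]
  exact h1

theorem mem2' (P : GP t s θ x1 x2 x3 W1 W2 W3 N) (b : F) : x2 b ∈ W2 := P.mem2 P.surj b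

theorem x_zero1 (P : GP t s θ x1 x2 x3 W1 W2 W3 N) : x1 0 = 1 := by
  have h := P.add1 0 0
  rw [add_zero] at h
  exact (left_eq_mul.1 h)

/-- `[w, w^v] ∉ N` for `1 ≠ w ∈ X₁`. -/
theorem of_fix (P : GP t s θ x1 x2 x3 W1 W2 W3 N) {a : F} (h : br (x1 a) (x2 (θ a)) ∈ N) : a = 0 := by
  have h1 := P.rel a (θ a)
  have h2 : x3 (a * θ a) ∈ N := by
    have h3 : x3 (a * θ a) = br (x1 a) (x2 (θ a)) * ((x3 (a * θ a))⁻¹ * br (x1 a) (x2 (θ a)))⁻¹ := by group
    rw [h3]
    exact N.mul_mem h (N.inv_mem h1)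
  have h3 := P.inj3 _ h2
  rcases mul_eq_zero.1 h3 with h4 | h4
  · exact h4
  · exact (map_eq_zero θ).1 h4

/-- **For `v = s` or for `v = t s` no `1 ≠ w ∈ W₁` has `[w, w^v] ∈ N`.** -/
theorem main (P : GP t s θ x1 x2 x3 W1 W2 W3 N) :
    (∀ w ∈ W1, br w (s * w * s) ∈ N → w = 1) ∨ ∀ w ∈ W1, br w (t * s * w * (t * s)⁻¹) ∈ N → w = 1 := by
  by_contra hcon
  push Not at hcon
  obtain ⟨⟨w, hw, hwN, hw1⟩, w', hw', hwN', hw1'⟩ := hcon
  have hti := P.t_inv
  have hsi := P.s_inv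
  -- heights
  obtain ⟨c, hc⟩ := P.ht1 w hw
  obtain ⟨c', hc'⟩ := P.ht1 w' hw'
  have hc0 : c ≠ 0 := by
    rintro rfl
    rw [P.x_zero1, mul_one] at hc
    obtain ⟨a, rfl⟩ := P.fix1 w hw hc
    rw [P.sx] at hwN
    rw [P.of_fix hwN, P.x_zero1] at hw1
    exact hw1 rfl
  have hts : ∀ w : G, t * s * w * (t * s)⁻¹ = s * (t * w * t) * s := by
    intro w
    rw [mul_inv_rev, hti, hsi, ← P.st]
    calc s * t * w * (s * t) = s * t * w * (t * s) := by rw [P.st]
      _ = s * (t * w * t) * s := by group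
  have hc0' : c' ≠ 0 := by
    rintro rfl
    rw [P.x_zero1, mul_one] at hc'
    obtain ⟨a, rfl⟩ := P.fix1 w' hw' hc'
    rw [hts, hc', P.sx] at hwN'
    rw [P.of_fix hwN', P.x_zero1] at hw1'
    exact hw1' rfl
  -- normalise `c = 1`
  obtain ⟨h, hht, hhs, hhW, hhN, hhx⟩ := P.tor c⁻¹ (inv_ne_zero hc0)
  obtain ⟨k, hkt, hks, hkW, hkN, hkx⟩ := P.tor c'⁻¹ (inv_ne_zero hc0')
  set u : G := h * w * h⁻¹ with hu
  set u' : G := k * w' * k⁻¹ with hu'
  have conj_t : ∀ {h x : G}, h * t = t * h → t * (h * x * h⁻¹) * t = h * (t * x * t) * h⁻¹ := by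
    intro h x hh
    have h2 : h⁻¹ * t = t * h⁻¹ := by rw [inv_mul_eq_iff_eq_mul, ← mul_assoc, hh, mul_inv_cancel_right]
    calc t * (h * x * h⁻¹) * t = (t * h) * x * (h⁻¹ * t) := by group
      _ = h * (t * x * t) * h⁻¹ := by rw [← hh, h2]; group
  have conj_s : ∀ {h x : G}, h * s = s * h → s * (h * x * h⁻¹) * s = h * (s * x * s) * h⁻¹ := by
    intro h x hh
    have h2 : h⁻¹ * s = s * h⁻¹ := by rw [inv_mul_eq_iff_eq_mul, ← mul_assoc, hh, mul_inv_cancel_right]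
    calc s * (h * x * h⁻¹) * s = (s * h) * x * (h⁻¹ * s) := by group
      _ = h * (s * x * s) * h⁻¹ := by rw [← hh, h2]; group
  have huW : u ∈ W1 := hhW w hw
  have hu'W : u' ∈ W1 := hkW w' hw'
  have htu : t * u * t = u * x1 1 := by
    rw [hu, conj_t hht, hc]
    calc h * (w * x1 c) * h⁻¹ = (h * w * h⁻¹) * (h * x1 c * h⁻¹) := by group
      _ = h * w * h⁻¹ * x1 1 := by rw [hhx, inv_mul_cancel₀ hc0]
  have htu' : t * u' * t = u' * x1 1 := by
    rw [hu', conj_t hkt, hc']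
    calc k * (w' * x1 c') * k⁻¹ = (k * w' * k⁻¹) * (k * x1 c' * k⁻¹) := by group
      _ = k * w' * k⁻¹ * x1 1 := by rw [hkx, inv_mul_cancel₀ hc0']
  have huN : br u (s * u * s) ∈ N := by
    have h1 := hhN _ hwN
    rw [conj_br] at h1
    rwa [hu, conj_s hhs]
  have hu'N : br u' (s * (u' * x1 1) * s) ∈ N := by
    rw [← htu']
    have h1 := hkN _ hwN'
    rw [conj_br, hts] at h1
    have h2 : k * (s * (t * w' * t) * s) * k⁻¹ = s * (t * u' * t) * s := by
      rw [hu', conj_t hkt, ← conj_s hks]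
    rwa [h2] at h1
  -- `u' = u x₁(d)`
  obtain ⟨d, hd⟩ : ∃ d, u⁻¹ * u' = x1 d := by
    apply P.fix1 _ (W1.mul_mem (W1.inv_mem huW) hu'W)
    have e0 : t * u⁻¹ * t = (t * u * t)⁻¹ := by
      calc t * u⁻¹ * t = t⁻¹ * u⁻¹ * t⁻¹ := by rw [hti]
        _ = (t * u * t)⁻¹ := by group
    calc t * (u⁻¹ * u') * t = (t * u⁻¹ * t) * (t * t)⁻¹ * (t * u' * t) := by group
      _ = (t * u⁻¹ * t) * (t * u' * t) := by rw [P.tt]; group
      _ = (t * u * t)⁻¹ * (t * u' * t) := by rw [e0]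
      _ = (u * x1 1)⁻¹ * (u' * x1 1) := by rw [htu, htu']
      _ = (x1 1)⁻¹ * (u⁻¹ * u') * x1 1 := by group
      _ = u⁻¹ * u' := by
        rw [P.ab1 _ (W1.inv_mem (P.mem1 1)) _ (W1.mul_mem (W1.inv_mem huW) hu'W), inv_mul_cancel_right]
  have hd' : u' = u * x1 d := by rw [← hd]; group
  set y : G := s * u * s with hy
  have hyW : y ∈ W2 := P.sW u huW
  set e : F := θ d + 1 with he
  have hs1 : s * (u' * x1 1) * s = y * x2 e := by
    rw [hd', hy, he, P.add2, ← P.sx]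
    have h1 : x2 1 = s * x1 1 * s := by rw [P.sx, map_one]
    rw [h1]
    calc s * (u * x1 d * x1 1) * s = s * u * (x1 d * x1 1) * s := by group
      _ = s * u * (s * s) * x1 d * (s * s) * x1 1 * s := by rw [P.ss]; group
      _ = s * u * s * (s * x1 d * s * (s * x1 1 * s)) := by group
  have hxeW : x2 e ∈ W2 := P.mem2' e
  -- the four terms
  have h4 : br u (x2 e) * br (x1 d) y * br (x1 d) (x2 e) ∈ N := by
    rw [hs1, hd', P.mul_left huW (P.mem1 d) (W2.mul_mem hyW hxeW), P.mul_right huW hyW hxeW,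
      P.mul_right (P.mem1 d) hyW hxeW] at hu'N
    have h5 := N.mul_mem (N.inv_mem huN) hu'N
    have h6 : (br u y)⁻¹ * (br u y * br u (x2 e) * (br (x1 d) y * br (x1 d) (x2 e))) =
        br u (x2 e) * br (x1 d) y * br (x1 d) (x2 e) := by group
    rwa [h6] at h5
  -- apply `t`
  have hconj : ∀ a b : G, t * br a b * t = br (t * a * t) (t * b * t) := by
    intro a b
    have := conj_br t a b
    rwa [hti] at this
  have htx2 : ∀ b, t * x2 b * t = x2 b := by
    intro b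
    obtain ⟨a, rfl⟩ := P.surj b
    rw [← P.sx]
    calc t * (s * x1 a * s) * t = (t * s) * x1 a * (s * t) := by group
      _ = (s * t) * x1 a * (t * s) := by rw [P.st]
      _ = s * (t * x1 a * t) * s := by group
      _ = s * x1 a * s := by rw [P.tx1]
  have hty : t * y * t = y * x2 1 := by
    have h1 : x2 1 = s * x1 1 * s := by rw [P.sx, map_one]
    rw [h1, hy]
    calc t * (s * u * s) * t = (t * s) * u * (s * t) := by group
      _ = (s * t) * u * (t * s) := by rw [P.st]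
      _ = s * (t * u * t) * s := by group
      _ = s * (u * x1 1) * s := by rw [htu]
      _ = s * u * (s * s) * x1 1 * s := by rw [P.ss]; group
      _ = s * u * s * (s * x1 1 * s) := by group
  have h5 := P.tN _ h4
  have h6 : t * (br u (x2 e) * br (x1 d) y * br (x1 d) (x2 e)) * t =
      (t * br u (x2 e) * t) * (t * br (x1 d) y * t) * (t * br (x1 d) (x2 e) * t) := by
    calc t * (br u (x2 e) * br (x1 d) y * br (x1 d) (x2 e)) * t
        = t * br u (x2 e) * 1 * br (x1 d) y * 1 * br (x1 d) (x2 e) * t := by group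
      _ = t * br u (x2 e) * (t * t) * br (x1 d) y * (t * t) * br (x1 d) (x2 e) * t := by rw [P.tt]
      _ = _ := by group
  rw [h6, hconj, hconj, hconj, htu, htx2, P.tx1, hty, P.mul_left huW (P.mem1 1) hxeW,
    P.mul_right (P.mem1 d) hyW (P.mem2' 1)] at h5
  -- the quotient
  set A : G := br u (x2 e)
  set B : G := br (x1 d) y
  set C : G := br (x1 d) (x2 e)
  set D : G := br (x1 1) (x2 e) with hD
  set E : G := br (x1 d) (x2 1) with hE
  have hA : A ∈ W3 ⊔ N := P.brm _ huW _ hxeW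
  have hB : B ∈ W3 ⊔ N := P.brm _ (P.mem1 d) _ hyW
  have hDm : D ∈ W3 ⊔ N := P.brm _ (P.mem1 1) _ hxeW
  have hEm : E ∈ W3 ⊔ N := P.brm _ (P.mem1 d) _ (P.mem2' 1)
  have h7 : D * E ∈ N := by
    have h8 : A * D * (B * E) * C = (D * E) * (A * B * C) := by
      have c1 := P.c33 A hA D hDm
      have c2 := P.c33 B hB E hEm
      have c3 := P.c33 A hA E hEm
      calc A * D * (B * E) * C = (A * D) * (B * E) * C := by group
        _ = (D * A) * (E * B) * C := by rw [c1, c2]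
        _ = D * (A * E) * (B * C) := by group
        _ = D * (E * A) * (B * C) := by rw [c3]
        _ = (D * E) * (A * B * C) := by group
    rw [h8] at h5
    have h9 := N.mul_mem h5 (N.inv_mem h4)
    rwa [mul_inv_cancel_right] at h9
  have h8 : x3 (e + d) ∈ N := by
    have k1 := P.rel 1 e
    have k2 := P.rel d 1
    rw [one_mul] at k1
    rw [mul_one] at k2
    have k3 : x3 (e + d) = D * E * ((x3 d)⁻¹ * E)⁻¹ * (E * ((x3 e)⁻¹ * D) * E⁻¹)⁻¹ *
        1 := by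
      have c1 : (x3 e)⁻¹ * D ∈ W3 ⊔ N := mem_sup_right k1
      have c2 := P.c33 E hEm _ c1
      rw [c2, mul_inv_cancel_right, P.add3, mul_one]
      have c3 := P.c33 _ (mem_sup_left (P.mem3 d)) _ (Subgroup.inv_mem _ c1)
      calc x3 e * x3 d = D * ((x3 e)⁻¹ * D)⁻¹ * x3 d := by group
        _ = D * (((x3 e)⁻¹ * D)⁻¹ * x3 d) := by group
        _ = D * (x3 d * ((x3 e)⁻¹ * D)⁻¹) := by rw [c3]
        _ = D * E * ((x3 d)⁻¹ * E)⁻¹ * ((x3 e)⁻¹ * D)⁻¹ := by group
    rw [k3, mul_one]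
    refine N.mul_mem (N.mul_mem h7 (N.inv_mem k2)) (N.inv_mem ?_)
    rw [P.c33 E hEm _ (mem_sup_right k1), mul_inv_cancel_right]
    exact k1
  have h9 := P.inj3 _ h8
  -- `θ d = d + 1`
  have h2 : (2 : F) = 0 := by
    have k1 := P.two 2
    have k2 : θ (θ (2 : F)) = 2 := by rw [map_ofNat, map_ofNat]
    rw [k2] at k1
    have k3 : (2 : F) * (2 - 1) = 0 := by
      rw [mul_sub, k1, mul_one, sub_self]
    rcases mul_eq_zero.1 k3 with k4 | k4
    · exact k4
    · exfalso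
      have k5 : (1 : F) = 0 := by
        have : (2 : F) - 1 = 1 := by norm_num
        rw [← this]; exact k4
      exact one_ne_zero k5
  have h10 : θ d = d + 1 := by
    rw [he] at h9
    have : θ d = θ d + 1 + d - (d + 1) := by ring
    rw [this, h9, zero_sub]
    have k1 : (d + 1) * 2 = 0 := by rw [h2, mul_zero]
    have : -(d + 1) = d + 1 - (d + 1) * 2 := by ring
    rw [this, k1, sub_zero]
  have h11 : θ (θ d) = d := by
    rw [h10, map_add, map_one, h10]
    have : d + 1 + 1 = d + 2 := by ring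
    rw [this, h2, add_zero]
  have h12 := P.two d
  rw [h11] at h12
  have h13 : d * (d - 1) = 0 := by rw [mul_sub, h12, mul_one, sub_self]
  rcases mul_eq_zero.1 h13 with h14 | h14
  · rw [h14, map_zero, zero_add] at h10
    exact zero_ne_one h10
  · have h15 : d = 1 := sub_eq_zero.1 h14
    rw [h15, map_one] at h10
    have : (1 : F) = 0 := by
      have h16 : (1 : F) + 1 = 2 := by norm_num
      rw [h10, h16, h2]
    exact one_ne_zero this

end GP

/-- **The transport** `C_{U*}(v) → U` (first half of `Exclude.excluded`). -/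
theorem transport [Finite G] {t : G} {T U Us : Subgroup G} (F : Fr t T U Us) {v : G} (hvU : v ∉ Us)
    (Z Zs : Subgroup G) (ZsU : Zs ≤ Us) (Zc : ∀ z ∈ Zs, ∀ w ∈ Us, z * w = w * z)
    (k0 : ∀ z ∈ Zs, ∀ g : G, g⁻¹ * t * g ≠ z) (k0' : ∀ z ∈ Z, ∃ g : G, g⁻¹ * t * g = t * z)
    (hcard : Nat.card Z ≤ Nat.card (Zs ⊓ centralizer ({v} : Set G) : Subgroup G))
    (k1 : ∀ c ∈ T, (∀ a ∈ T, ∀ b ∈ T, c * (a * b * a⁻¹ * b⁻¹) = a * b * a⁻¹ * b⁻¹ * c) → c ∈ Z ∨ t * c ∈ Z)
    (k2 : ∀ c ∈ T, (∀ z ∈ Z, c * z = z * c) → c ∈ U ∨ t * c ∈ U) {g : G} (hv : g⁻¹ * t * g = v)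
    (hg : ∀ d ∈ T, g⁻¹ * d * g ∈ F.S) :
    (∀ x ∈ Us, x * v = v * x → g * x * g⁻¹ ∈ T ∧ (g * x * g⁻¹ ∈ U ∨ t * (g * x * g⁻¹) ∈ U)) ∧
      ∀ u ∈ U, ∃ x ∈ Us, x * v = v * x ∧ (u = g * x * g⁻¹ ∨ u = t * (g * x * g⁻¹)) := by
  classical
  have ti : t⁻¹ = t := inv_eq_of_mul_eq_one_left F.tt
  -- transport
  have hT : ∀ c ∈ F.S, c * v = v * c → g * c * g⁻¹ ∈ T := by
    intro c hc hcv
    apply F.conj_mem hg hc
    rw [hv]
    exact hcv
  -- commutators of `T` are carried into `U*`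
  have hcomm : ∀ a ∈ T, ∀ b ∈ T, g⁻¹ * (a * b * a⁻¹ * b⁻¹) * g ∈ Us := by
    intro a ha b hb
    have h1 := F.comm_mem (hg a ha) (hg b hb)
    have h2 : g⁻¹ * a * g * (g⁻¹ * b * g) * (g⁻¹ * a * g)⁻¹ * (g⁻¹ * b * g)⁻¹ = g⁻¹ * (a * b * a⁻¹ * b⁻¹) * g := by
      group
    rwa [h2] at h1
  -- `Zs ∩ C(v)` is carried into `Z`
  have hZ : ∀ z ∈ Zs, z * v = v * z → g * z * g⁻¹ ∈ Z := by
    intro z hz hzv
    have h1 : g * z * g⁻¹ ∈ T := hT z (F.Us_le (ZsU hz)) hzv
    rcases k1 _ h1 (fun a ha b hb => by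
      have h2 := Zc z hz _ (hcomm a ha b hb)
      calc g * z * g⁻¹ * (a * b * a⁻¹ * b⁻¹) = g * (z * (g⁻¹ * (a * b * a⁻¹ * b⁻¹) * g)) * g⁻¹ := by group
        _ = g * (g⁻¹ * (a * b * a⁻¹ * b⁻¹) * g * z) * g⁻¹ := by rw [h2]
        _ = a * b * a⁻¹ * b⁻¹ * (g * z * g⁻¹) := by group) with h2 | h2
    · exact h2
    · exfalso
      obtain ⟨h, hh⟩ := k0' _ h2
      apply k0 z hz (h * g)
      rw [← mul_assoc t, F.tt, one_mul] at hh
      calc (h * g)⁻¹ * t * (h * g) = g⁻¹ * (h⁻¹ * t * h) * g := by group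
        _ = g⁻¹ * (g * z * g⁻¹) * g := by rw [hh]
        _ = z := by group
  -- ... onto `Z`
  have hZ' : ∀ z ∈ Z, ∃ z' ∈ Zs, z' * v = v * z' ∧ z = g * z' * g⁻¹ := by
    have hmem : ∀ x : (Zs ⊓ centralizer ({v} : Set G) : Subgroup G), (x : G) * v = v * x := fun x =>
      mem_centralizer_singleton_iff.1 x.2.2
    let f : (Zs ⊓ centralizer ({v} : Set G) : Subgroup G) → Z := fun x => ⟨g * x * g⁻¹, hZ x x.2.1 (hmem x)⟩
    have hf : Function.Injective f := by
      intro a b hab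
      have h2 : g * (a : G) * g⁻¹ = g * b * g⁻¹ := congrArg Subtype.val hab
      exact Subtype.ext (mul_left_cancel (mul_right_cancel h2))
    have hs : Function.Bijective f := hf.bijective_of_nat_card_le hcard
    intro z hz
    obtain ⟨x, hx⟩ := hs.2 ⟨z, hz⟩
    exact ⟨x, x.2.1, hmem x, (congrArg Subtype.val hx).symm⟩
  -- `X = g C_{U*}(v) g⁻¹ ≤ ⟨t⟩ U`
  have hX : ∀ x ∈ Us, x * v = v * x → g * x * g⁻¹ ∈ U ∨ t * (g * x * g⁻¹) ∈ U := by
    intro x hx hxv
    apply k2 _ (hT x (F.Us_le hx) hxv)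
    intro z hz
    obtain ⟨z', hz', -, rfl⟩ := hZ' z hz
    have h2 := Zc z' hz' x hx
    calc g * x * g⁻¹ * (g * z' * g⁻¹) = g * (x * z') * g⁻¹ := by group
      _ = g * (z' * x) * g⁻¹ := by rw [h2]
      _ = g * z' * g⁻¹ * (g * x * g⁻¹) := by group
  -- the projection to `U` is onto
  have hmemX : ∀ x : (Us ⊓ centralizer ({v} : Set G) : Subgroup G), (x : G) * v = v * x := fun x =>
    mem_centralizer_singleton_iff.1 x.2.2
  let p : (Us ⊓ centralizer ({v} : Set G) : Subgroup G) → U := fun x =>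
    if h : g * (x : G) * g⁻¹ ∈ U then ⟨_, h⟩ else ⟨t * (g * x * g⁻¹), (hX x x.2.1 (hmemX x)).resolve_left h⟩
  have hpval : ∀ x, (p x : G) = g * (x : G) * g⁻¹ ∨ (p x : G) = t * (g * x * g⁻¹) := by
    intro x
    by_cases h : g * (x : G) * g⁻¹ ∈ U
    · left
      simp only [p, dif_pos h]
    · right
      simp only [p, dif_neg h]
  have hnt : ∀ a b : (Us ⊓ centralizer ({v} : Set G) : Subgroup G),
      g * (a : G) * g⁻¹ ≠ t * (g * b * g⁻¹) := by
    intro a b hab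
    apply hvU
    have h1 : v = (a : G) * (b : G)⁻¹ := by
      have h2 : (a : G) = g⁻¹ * (t * (g * b * g⁻¹)) * g := by rw [← hab]; group
      have h3 : (a : G) = v * b := by
        calc (a : G) = g⁻¹ * (t * (g * b * g⁻¹)) * g := h2
          _ = (g⁻¹ * t * g) * b := by group
          _ = v * b := congrArg (fun x => x * (b : G)) hv
      calc v = v * b * (b : G)⁻¹ := by group
        _ = (a : G) * (b : G)⁻¹ := congrArg (fun x => x * (b : G)⁻¹) h3.symm
    rw [h1]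
    exact mul_mem a.2.1 (inv_mem b.2.1)
  have hpinj : Function.Injective p := by
    intro a b hab
    have h1 : (p a : G) = p b := congrArg Subtype.val hab
    apply Subtype.ext
    rcases hpval a with h2 | h2 <;> rcases hpval b with h3 | h3 <;> rw [h2, h3] at h1
    · exact mul_left_cancel (mul_right_cancel h1)
    · exact absurd h1 (hnt a b)
    · exact absurd h1.symm (hnt b a)
    · exact mul_left_cancel (mul_right_cancel (mul_left_cancel h1))
  have hpsurj : Function.Surjective p := (hpinj.bijective_of_nat_card_le (card_le F hv hg)).2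
  refine ⟨fun x hx hxv => ⟨hT x (F.Us_le hx) hxv, hX x hx hxv⟩, fun u hu => ?_⟩
  obtain ⟨c, hc⟩ := hpsurj ⟨u, hu⟩
  have h1 : (p c : G) = u := congrArg Subtype.val hc
  refine ⟨c, c.2.1, hmemX c, ?_⟩
  rw [← h1]
  exact hpval c

/-- **The type of `v` is excluded**: `U` is generated by involutions, `C_{U*}(v)` is not. -/
theorem excludedG [Finite G] {t : G} {T U Us : Subgroup G} (F : Fr t T U Us) {v : G} (hvU : v ∉ Us)
    (Z Zs : Subgroup G) (ZsU : Zs ≤ Us) (Zc : ∀ z ∈ Zs, ∀ w ∈ Us, z * w = w * z)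
    (k0 : ∀ z ∈ Zs, ∀ g : G, g⁻¹ * t * g ≠ z) (k0' : ∀ z ∈ Z, ∃ g : G, g⁻¹ * t * g = t * z)
    (hcard : Nat.card Z ≤ Nat.card (Zs ⊓ centralizer ({v} : Set G) : Subgroup G))
    (k1 : ∀ c ∈ T, (∀ a ∈ T, ∀ b ∈ T, c * (a * b * a⁻¹ * b⁻¹) = a * b * a⁻¹ * b⁻¹ * c) → c ∈ Z ∨ t * c ∈ Z)
    (k2 : ∀ c ∈ T, (∀ z ∈ Z, c * z = z * c) → c ∈ U ∨ t * c ∈ U)
    (gen : ∀ P : Subgroup G, (∀ u ∈ U, u * u = 1 → u ∈ P) → U ≤ P)
    (M : Subgroup G) (hM : ∀ x ∈ Us, x * v = v * x → x * x = 1 → x ∈ M)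
    (hne : Nat.card (Us ⊓ M ⊓ centralizer ({v} : Set G) : Subgroup G) < Nat.card U) {g : G}
    (hv : g⁻¹ * t * g = v) (hg : ∀ d ∈ T, g⁻¹ * d * g ∈ F.S) : False := by
  classical
  obtain ⟨h1, h2⟩ := transport F hvU Z Zs ZsU Zc k0 k0' hcard k1 k2 hv hg
  have hle := card_le F hv hg
  have vv : v * v = 1 := by
    rw [← hv]
    calc g⁻¹ * t * g * (g⁻¹ * t * g) = g⁻¹ * (t * t) * g := by group
      _ = 1 := by rw [F.tt]; group
  -- the group `P`
  set M' : Subgroup G := Us ⊓ M ⊓ centralizer ({v} : Set G) with hM'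
  have hM'v : ∀ x ∈ M', x * v = v * x := fun x hx => mem_centralizer_singleton_iff.1 hx.2
  let P0 : Subgroup G :=
    { carrier := {x | x ∈ M' ∨ v * x ∈ M'}
      one_mem' := Or.inl (one_mem _)
      mul_mem' := by
        rintro a b (ha | ha) (hb | hb)
        · exact Or.inl (mul_mem ha hb)
        · right
          have : v * (a * b) = a * (v * b) := by rw [← mul_assoc, ← hM'v a ha, mul_assoc]
          rw [this]; exact mul_mem ha hb
        · right
          rw [← mul_assoc]; exact mul_mem ha hb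
        · left
          have h3 : a * b = v * a * (v * b) := by
            have h4 := hM'v _ ha
            calc a * b = (v * v) * a * b := by rw [vv, one_mul]
              _ = v * (v * a) * b := by group
              _ = (v * a * v) * b := by rw [h4]
              _ = v * a * (v * b) := by group
          rw [h3]; exact mul_mem ha hb
      inv_mem' := by
        rintro a (ha | ha)
        · exact Or.inl (inv_mem ha)
        · right
          have h4 := hM'v _ (inv_mem ha)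
          have h5 : v⁻¹ = v := inv_eq_of_mul_eq_one_left vv
          have h3 : v * a⁻¹ = (v * a)⁻¹ := by
            calc v * a⁻¹ = v * (a⁻¹ * v⁻¹ * v) := by group
              _ = v * ((v * a)⁻¹ * v) := by rw [mul_inv_rev]
              _ = v * (v * (v * a)⁻¹) := by rw [h4]
              _ = (v * a)⁻¹ := by rw [← mul_assoc, vv, one_mul]
          rw [h3]; exact inv_mem ha }
  have hP0 : ∀ x, x ∈ P0 ↔ x ∈ M' ∨ v * x ∈ M' := fun x => Iff.rfl
  have hUP : U ≤ P0.map (MulAut.conj g).toMonoidHom := by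
    apply gen
    intro u hu huu
    obtain ⟨x, hx, hxv, hxu⟩ := h2 u hu
    have hxT := (h1 x hx hxv).1
    have hxx : x * x = 1 := by
      have h3 : u * u = g * (x * x) * g⁻¹ := by
        rcases hxu with h | h
        · rw [h]; group
        · rw [h]
          have h4 := F.Tc _ hxT
          calc t * (g * x * g⁻¹) * (t * (g * x * g⁻¹)) = t * ((g * x * g⁻¹) * t) * (g * x * g⁻¹) := by group
            _ = t * (t * (g * x * g⁻¹)) * (g * x * g⁻¹) := by rw [h4]
            _ = (t * t) * (g * (x * x) * g⁻¹) := by group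
            _ = g * (x * x) * g⁻¹ := by rw [F.tt, one_mul]
      rw [h3] at huu
      calc x * x = g⁻¹ * (g * (x * x) * g⁻¹) * g := by group
        _ = 1 := by rw [huu]; group
    have hxM : x ∈ M' := ⟨⟨hx, hM x hx hxv hxx⟩, mem_centralizer_singleton_iff.2 hxv⟩
    refine ⟨g⁻¹ * u * g, ?_, by show g * (g⁻¹ * u * g) * g⁻¹ = u; group⟩
    rcases hxu with h | h
    · left
      rw [h]
      have : g⁻¹ * (g * x * g⁻¹) * g = x := by group
      rw [this]; exact hxM
    · right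
      have : v * (g⁻¹ * u * g) = x := by
        rw [h, ← hv]
        calc g⁻¹ * t * g * (g⁻¹ * (t * (g * x * g⁻¹)) * g) = g⁻¹ * (t * t) * g * x := by group
          _ = x := by rw [F.tt]; group
      rw [this]; exact hxM
  have hvM : ∀ x ∈ M', v * x ∉ Us := by
    intro x hx h
    apply hvU
    have : v = v * x * x⁻¹ := by group
    rw [this]
    exact mul_mem h (inv_mem hx.1.1)
  have hsub : (Us ⊓ centralizer ({v} : Set G) : Subgroup G) ≤ M' := by
    rintro x ⟨hx, hxv⟩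
    replace hxv := mem_centralizer_singleton_iff.1 hxv
    have h3 : x ∈ P0 := by
      rcases (h1 x hx hxv).2 with h | h
      · obtain ⟨y, hy, hyx⟩ := hUP h
        have h4 : g * y * g⁻¹ = g * x * g⁻¹ := hyx
        rw [← mul_left_cancel (mul_right_cancel h4)]
        exact hy
      · obtain ⟨y, hy, hyx⟩ := hUP h
        have h4 : g * y * g⁻¹ = t * (g * x * g⁻¹) := hyx
        have h5 : y = v * x := by
          calc y = g⁻¹ * (g * y * g⁻¹) * g := by group
            _ = (g⁻¹ * t * g) * x := by rw [h4]; group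
            _ = v * x := by rw [hv]
        have hvP : v ∈ P0 := Or.inr (by rw [vv]; exact one_mem _)
        have h6 := mul_mem hvP hy
        rw [h5, ← mul_assoc, vv, one_mul] at h6
        exact h6
    rcases h3 with h3 | h3
    · exact h3
    · exfalso
      apply hvU
      have : v = v * x * x⁻¹ := by group
      rw [this]
      exact mul_mem h3.1.1 (inv_mem hx)
  exact absurd (lt_of_lt_of_le hne hle) (not_lt.2 (Nat.card_le_card_of_injective _ (inclusion_injective hsub)))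

end Cfsg.Agent.OddHalf.Out.Graph
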