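import Cfsg.Agent.OddHalf.SL.Bridge

/-!
# Leading terms in the unipotent group of a simply laced root system

`U = ∏_{a > 0} X a`. If `u ∈ U` is not in the highest root group, then there is a positive root `a` such that no
nontrivial element of `X a` commutes with `u`.
-/

set_option autoImplicit false

namespace Cfsg.Agent.OddHalf.Out.Lead

open Cfsg.Agent.Doubling Cfsg.Agent.OddHalf.SL

variable {G : Type*} [Group G] {L : Type*} [AddCommGroup L]

/-- The group generated by the root groups of height at least `ht c`, different from `c`. -/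
def Nb (ht : L →+ ℤ) (Φ : Set L) (X : L → Subgroup G) (c : L) : Subgroup G :=
  ⨆ b : L, ⨆ _ : b ∈ Φ ∧ ht c ≤ ht b ∧ b ≠ c, X b

theorem le_Nb {ht : L →+ ℤ} {Φ : Set L} {X : L → Subgroup G} {b c : L} (hb : b ∈ Φ) (h1 : ht c ≤ ht b)
    (h2 : b ≠ c) : X b ≤ Nb ht Φ X c :=
  le_iSup₂_of_le (f := fun b (_ : b ∈ Φ ∧ ht c ≤ ht b ∧ b ≠ c) => X b) b ⟨hb, h1, h2⟩ le_rfl

/-- The hypotheses. -/
structure Data (B : L → L → ℤ) (Φ : Set L) (ht : L →+ ℤ) (X : L → Subgroup G) (ρ : L) : Prop where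
  roots : Defs.Roots B Φ
  pos : ∀ r ∈ Φ, ∀ s ∈ Φ, 0 ≤ B r s → ∀ x ∈ X r, ∀ y ∈ X s, x * y = y * x
  neg : ∀ r ∈ Φ, ∀ s ∈ Φ, B r s = -1 → ∀ x ∈ X r, ∀ y ∈ X s, x * y * x⁻¹ * y⁻¹ ∈ X (r + s)
  nd : ∀ r ∈ Φ, ∀ s ∈ Φ, B r s = -1 → ∀ x ∈ X r, ∀ y ∈ X s, x * y = y * x → x = 1 ∨ y = 1
  dir : ∀ a ∈ Φ, 0 < ht a → X a ⊓ (⨆ b : L, ⨆ _ : b ∈ Φ ∧ ht a ≤ ht b ∧ b ≠ a, X b) = ⊥
  hρ : ρ ∈ Φ
  top : ∀ b ∈ Φ, b ≠ ρ → ht b < ht ρ
  up : ∀ r ∈ Φ, 0 < ht r → r ≠ ρ → ∃ a ∈ Φ, 0 < ht a ∧ B r a = -1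

namespace Data

variable {B : L → L → ℤ} {Φ : Set L} {ht : L →+ ℤ} {X : L → Subgroup G} {ρ : L}

theorem dich (D : Data B Φ ht X ρ) {a b : L} (ha : a ∈ Φ) (hb : b ∈ Φ) (h0 : 0 < ht a) (h1 : 0 < ht b) :
    0 ≤ B a b ∨ B a b = -1 := by
  rcases lt_or_ge (B a b) 0 with hB | hB
  · right
    have h2 := D.roots.le _ (D.roots.neg_mem a ha) _ hb
    rw [D.roots.neg_left] at h2
    have h3 : B a b ≠ -2 := by
      intro h3
      have h4 := D.roots.eq_neg ha hb h3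
      rw [h4, map_neg] at h0
      omega
    omega
  · exact Or.inl hB

theorem ht_ρ (D : Data B Φ ht X ρ) : 0 < ht ρ := by
  by_cases h : -ρ = ρ
  · exfalso
    have h1 := D.roots.neg_left ρ ρ
    rw [h, D.roots.two _ D.hρ] at h1
    omega
  · have h1 := D.top _ (D.roots.neg_mem _ D.hρ) h
    rw [map_neg] at h1
    omega

/-- `X a` normalises `Nb c`. -/
theorem norm (D : Data B Φ ht X ρ) {a c : L} (ha : a ∈ Φ) (h0 : 0 < ht a) (hc : 0 < ht c) {x w : G} (hx : x ∈ X a)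
    (hw : w ∈ Nb ht Φ X c) : x * w * x⁻¹ ∈ Nb ht Φ X c := by
  have hle : Nb ht Φ X c ≤ (Nb ht Φ X c).comap (MulAut.conj x).toMonoidHom := by
    refine iSup₂_le fun b hb y hy => ?_
    show x * y * x⁻¹ ∈ Nb ht Φ X c
    have hyN : y ∈ Nb ht Φ X c := le_Nb hb.1 hb.2.1 hb.2.2 hy
    rcases D.dich ha hb.1 h0 (lt_of_lt_of_le hc hb.2.1) with h1 | h1
    · rw [D.pos a ha b hb.1 h1 x hx y hy, mul_inv_cancel_right]
      exact hyN
    · have h2 := D.neg a ha b hb.1 h1 x hx y hy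
      have h3 : X (a + b) ≤ Nb ht Φ X c := by
        apply le_Nb (D.roots.add a ha b hb.1 h1)
        · rw [map_add]; linarith [hb.2.1]
        · rintro h4
          rw [← h4, map_add] at hb
          linarith [hb.2.1]
      have h4 := mul_mem (h3 h2) hyN
      have h5 : x * y * x⁻¹ * y⁻¹ * y = x * y * x⁻¹ := by group
      rwa [h5] at h4
  exact hle hw

theorem norm_pos (D : Data B Φ ht X ρ) {c : L} (hc : 0 < ht c) {x w : G} (hx : x ∈ Bridge.pos ht Φ X)
    (hw : w ∈ Nb ht Φ X c) : x * w * x⁻¹ ∈ Nb ht Φ X c := by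
  let S : Subgroup G :=
    { carrier := {x | ∀ w, w ∈ Nb ht Φ X c ↔ x * w * x⁻¹ ∈ Nb ht Φ X c}
      one_mem' := fun w => by rw [one_mul, inv_one, mul_one]
      mul_mem' := fun {a b} ha hb w => by
        rw [hb w, ha (b * w * b⁻¹)]
        have : a * (b * w * b⁻¹) * a⁻¹ = a * b * w * (a * b)⁻¹ := by group
        rw [this]
      inv_mem' := fun {a} ha w => by
        rw [ha (a⁻¹ * w * a⁻¹⁻¹)]
        have : a * (a⁻¹ * w * a⁻¹⁻¹) * a⁻¹ = w := by group
        rw [this] }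
  have hle : Bridge.pos ht Φ X ≤ S := by
    refine iSup₂_le fun a ha x hx w => ⟨fun hw => D.norm ha.1 ha.2 hc hx hw, fun hw => ?_⟩
    have h1 := D.norm ha.1 ha.2 hc (inv_mem hx) hw
    have h2 : x⁻¹ * (x * w * x⁻¹) * x⁻¹⁻¹ = w := by group
    rwa [h2] at h1
  exact (hle hx w).1 hw

/-- **The leading term lemma.** -/
theorem lead (D : Data B Φ ht X ρ) {r a : L} (hr : r ∈ Φ) (hr0 : 0 < ht r) (ha : a ∈ Φ) (ha0 : 0 < ht a)
    (hra : B r a = -1) {x u' y : G} (hx : x ∈ X r) (hx1 : x ≠ 1) (hu' : u' ∈ Nb ht Φ X r) (hy : y ∈ X a)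
    (hy1 : y ≠ 1) : x * u' * y ≠ y * (x * u') := by
  intro hcomm
  have hc := D.roots.add r hr a ha hra
  have hc0 : 0 < ht (r + a) := by rw [map_add]; omega
  let S : Subgroup G :=
    { carrier := {w | w ∈ Bridge.pos ht Φ X ∧ w * y * w⁻¹ * y⁻¹ ∈ Nb ht Φ X (r + a)}
      one_mem' := ⟨one_mem _, by
        have : (1 : G) * y * 1⁻¹ * y⁻¹ = 1 := by group
        rw [this]; exact one_mem _⟩
      mul_mem' := by
        rintro v w ⟨hv, hv'⟩ ⟨hw, hw'⟩
        refine ⟨mul_mem hv hw, ?_⟩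
        have h1 := mul_mem (D.norm_pos hc0 hv hw') hv'
        have h2 : v * (w * y * w⁻¹ * y⁻¹) * v⁻¹ * (v * y * v⁻¹ * y⁻¹) = v * w * y * (v * w)⁻¹ * y⁻¹ := by group
        rwa [h2] at h1
      inv_mem' := by
        rintro v ⟨hv, hv'⟩
        refine ⟨inv_mem hv, ?_⟩
        have h1 := D.norm_pos hc0 (inv_mem hv) (inv_mem hv')
        have h2 : v⁻¹ * (v * y * v⁻¹ * y⁻¹)⁻¹ * v⁻¹⁻¹ = v⁻¹ * y * v⁻¹⁻¹ * y⁻¹ := by group
        rwa [h2] at h1 }
  have hle : Nb ht Φ X r ≤ S := by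
    refine iSup₂_le fun b hb w hw => ⟨?_, ?_⟩
    · exact Bridge.le_pos hb.1 (lt_of_lt_of_le hr0 hb.2.1) hw
    · rcases D.dich hb.1 ha (lt_of_lt_of_le hr0 hb.2.1) ha0 with h1 | h1
      · rw [D.pos b hb.1 a ha h1 w hw y hy]
        have : y * w * w⁻¹ * y⁻¹ = 1 := by group
        rw [this]; exact one_mem _
      · refine le_Nb (D.roots.add b hb.1 a ha h1) ?_ ?_ (D.neg b hb.1 a ha h1 w hw y hy)
        · rw [map_add, map_add]; linarith [hb.2.1]
        · intro h2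
          exact hb.2.2 (add_right_cancel h2)
  have h1 := (hle hu').2
  have hxp : x ∈ Bridge.pos ht Φ X := Bridge.le_pos hr hr0 hx
  have h2 := D.norm_pos hc0 hxp h1
  have h3 : x * y * x⁻¹ * y⁻¹ = (x * (u' * y * u'⁻¹ * y⁻¹) * x⁻¹)⁻¹ := by
    have h4 : x * (u' * y * u'⁻¹ * y⁻¹) * x⁻¹ * (x * y * x⁻¹ * y⁻¹) = 1 := by
      calc x * (u' * y * u'⁻¹ * y⁻¹) * x⁻¹ * (x * y * x⁻¹ * y⁻¹) = (x * u' * y) * (x * u')⁻¹ * y⁻¹ := by group
        _ = 1 := by rw [hcomm]; group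
    exact eq_inv_of_mul_eq_one_right h4
  have h6 : x * y * x⁻¹ * y⁻¹ ∈ Nb ht Φ X (r + a) := by
    rw [h3]; exact inv_mem h2
  have h4 : x * y * x⁻¹ * y⁻¹ ∈ X (r + a) ⊓ Nb ht Φ X (r + a) := ⟨D.neg r hr a ha hra x hx y hy, h6⟩
  unfold Nb at h4
  rw [D.dir _ hc hc0, Subgroup.mem_bot] at h4
  have h5 : x * y = y * x := by
    calc x * y = (x * y * x⁻¹ * y⁻¹) * (y * x) := by group
      _ = y * x := by rw [h4, one_mul]
  rcases D.nd r hr a ha hra x hx y hy h5 with h6 | h6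
  · exact hx1 h6
  · exact hy1 h6

/-- Every nontrivial element has a leading term. -/
theorem exists_lead (D : Data B Φ ht X ρ) {u : G} (hu : u ∈ Bridge.pos ht Φ X) (hu1 : u ≠ 1) :
    ∃ r ∈ Φ, 0 < ht r ∧ ∃ x ∈ X r, x ≠ 1 ∧ ∃ u' ∈ Nb ht Φ X r, u = x * u' := by
  classical
  set P : Finset L := D.roots.fin.toFinset.filter (fun a => 0 < ht a) with hP
  have hmemP : ∀ a, a ∈ P ↔ a ∈ Φ ∧ 0 < ht a := fun a => by
    rw [hP, Finset.mem_filter, Set.Finite.mem_toFinset]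
  obtain ⟨l, hl1, hl2, hl3, hl4⟩ := Bridge.exists_enum (fun a => ht a) P
  have hΦ : ∀ i < P.card, l i ∈ Φ := fun i hi => ((hmemP _).1 (hl1 i hi)).1
  have hht : ∀ i < P.card, 0 < ht (l i) := fun i hi => ((hmemP _).1 (hl1 i hi)).2
  have hU : Bridge.pos ht Φ X ≤ Growth.W (fun i => X (l i)) P.card := by
    refine iSup₂_le fun a ha => ?_
    obtain ⟨i, hi, rfl⟩ := hl2 a ((hmemP a).2 ha)
    exact Growth.le_W (fun i => X (l i)) hi
  have hNb : ∀ k < P.card, Growth.W (fun i => X (l i)) k ≤ Nb ht Φ X (l k) := by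
    intro k hk
    refine iSup₂_le fun i hi => ?_
    exact le_Nb (hΦ i (hi.trans hk)) (hl4 i k hi.le hk) (fun h => absurd (hl3 i k (hi.trans hk) hk h) hi.ne)
  have key : ∀ k ≤ P.card, ∀ u ∈ Growth.W (fun i => X (l i)) k, u ≠ 1 →
      ∃ r ∈ Φ, 0 < ht r ∧ ∃ x ∈ X r, x ≠ 1 ∧ ∃ u' ∈ Nb ht Φ X r, u = x * u' := by
    intro k
    induction k with
    | zero =>
      intro _ u hu hu1
      rw [Growth.W_zero] at hu
      exact absurd (Subgroup.mem_bot.1 hu) hu1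
    | succ k ih =>
      intro hk u hu hu1
      have hk' : k < P.card := hk
      -- `W (k+1) = W k * X (l k)`, using only that `X (l k)` normalises `W k`
      have hnorm : ∀ v ∈ X (l k), ∀ w ∈ Growth.W (fun i => X (l i)) k,
          v * w * v⁻¹ ∈ Growth.W (fun i => X (l i)) k := by
        intro v hv w hw
        have hle : Growth.W (fun i => X (l i)) k ≤
            (Growth.W (fun i => X (l i)) k).comap (MulAut.conj v).toMonoidHom := by
          refine iSup₂_le fun i hi y hy => ?_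
          show v * y * v⁻¹ ∈ Growth.W (fun i => X (l i)) k
          have hyN : y ∈ Growth.W (fun i => X (l i)) k := Growth.le_W (fun i => X (l i)) hi hy
          rcases D.dich (hΦ k hk') (hΦ i (hi.trans hk')) (hht k hk') (hht i (hi.trans hk')) with h1 | h1
          · rw [D.pos _ (hΦ k hk') _ (hΦ i (hi.trans hk')) h1 v hv y hy, mul_inv_cancel_right]
            exact hyN
          · have h2 := D.neg _ (hΦ k hk') _ (hΦ i (hi.trans hk')) h1 v hv y hy
            have hs := D.roots.add _ (hΦ k hk') _ (hΦ i (hi.trans hk')) h1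
            have h3 : 0 < ht (l k + l i) := by
              rw [map_add]; have := hht k hk'; have := hht i (hi.trans hk'); omega
            obtain ⟨j, hj, hjl⟩ := hl2 _ ((hmemP _).2 ⟨hs, h3⟩)
            have hjk : j < k := by
              by_contra hc
              have h4 : ht (l j) ≤ ht (l k) := hl4 k j (not_lt.1 hc) hj
              rw [hjl, map_add] at h4
              have := hht i (hi.trans hk')
              omega
            rw [← hjl] at h2
            have h4 := mul_mem (Growth.le_W (fun i => X (l i)) hjk h2) hyN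
            have h5 : v * y * v⁻¹ * y⁻¹ * y = v * y * v⁻¹ := by group
            rwa [h5] at h4
        exact hle hw
      let S : Subgroup G :=
        { carrier := {u | ∃ w ∈ Growth.W (fun i => X (l i)) k, ∃ v ∈ X (l k), u = v * w}
          one_mem' := ⟨1, one_mem _, 1, one_mem _, (mul_one 1).symm⟩
          mul_mem' := by
            rintro _ _ ⟨w, hw, v, hv, rfl⟩ ⟨w', hw', v', hv', rfl⟩
            refine ⟨(v'⁻¹ * w * v'⁻¹⁻¹) * w', mul_mem (hnorm _ (inv_mem hv') _ hw) hw', v * v', mul_mem hv hv', ?_⟩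
            group
          inv_mem' := by
            rintro _ ⟨w, hw, v, hv, rfl⟩
            exact ⟨v * w⁻¹ * v⁻¹, hnorm _ hv _ (inv_mem hw), v⁻¹, inv_mem hv, by group⟩ }
      have hS : Growth.W (fun i => X (l i)) (k + 1) ≤ S := by
        rw [Growth.W_succ, sup_le_iff]
        exact ⟨fun w hw => ⟨w, hw, 1, one_mem _, (one_mul w).symm⟩, fun v hv => ⟨1, one_mem _, v, hv, (mul_one v).symm⟩⟩
      obtain ⟨w, hw, v, hv, rfl⟩ := hS hu
      by_cases hv1 : v = 1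
      · rw [hv1, one_mul] at hu1 ⊢
        exact ih hk'.le w hw hu1
      · exact ⟨l k, hΦ k hk', hht k hk', v, hv, hv1, w, hNb k hk' hw, rfl⟩
  exact key _ le_rfl u (hU hu) hu1

/-- **The main result.** -/
theorem main (D : Data B Φ ht X ρ) {u : G} (hu : u ∈ Bridge.pos ht Φ X) (huρ : u ∉ X ρ) :
    ∃ a ∈ Φ, 0 < ht a ∧ ∀ y ∈ X a, y ≠ 1 → u * y ≠ y * u := by
  obtain ⟨r, hr, hr0, x, hx, hx1, u', hu', rfl⟩ := D.exists_lead hu (fun h => huρ (h ▸ one_mem _))
  have hrρ : r ≠ ρ := by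
    rintro rfl
    have h1 : Nb ht Φ X r ≤ ⊥ := by
      refine iSup₂_le fun b hb => ?_
      have := D.top b hb.1 hb.2.2
      exact absurd hb.2.1 (not_le.2 this)
    rw [Subgroup.mem_bot.1 (h1 hu'), mul_one] at huρ
    exact huρ hx
  obtain ⟨a, ha, ha0, hra⟩ := D.up r hr hr0 hrρ
  exact ⟨a, ha, ha0, fun y hy hy1 => D.lead hr hr0 ha ha0 hra hx hx1 hu' hy hy1⟩

/-- `X ρ` is central. -/
theorem central (D : Data B Φ ht X ρ) {z u : G} (hz : z ∈ X ρ) (hu : u ∈ Bridge.pos ht Φ X) : z * u = u * z := by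
  have hle : Bridge.pos ht Φ X ≤ Subgroup.centralizer ({z} : Set G) := by
    refine iSup₂_le fun a ha y hy => Subgroup.mem_centralizer_singleton_iff.2 ?_
    have h1 : 0 ≤ B ρ a := by
      rcases D.dich D.hρ ha.1 D.ht_ρ ha.2 with h1 | h1
      · exact h1
      · exfalso
        have h2 := D.roots.add _ D.hρ _ ha.1 h1
        have h3 : ρ + a ≠ ρ := by
          intro h3
          have h4 : a = 0 := add_eq_left.1 h3
          rw [h4, map_zero] at ha
          exact absurd ha.2 (lt_irrefl 0)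
        have h4 := D.top _ h2 h3
        rw [map_add] at h4
        linarith [ha.2]
    exact (D.pos _ D.hρ _ ha.1 h1 z hz y hy).symm
  exact (Subgroup.mem_centralizer_singleton_iff.1 (hle hu)).symm

/-- Noncentral elements have many conjugates. -/
theorem many [Finite G] (D : Data B Φ ht X ρ) {q : ℕ} (hq : ∀ a ∈ Φ, q ≤ Nat.card (X a)) {u : G}
    (hu : u ∈ Bridge.pos ht Φ X) (hn : ∃ c ∈ Bridge.pos ht Φ X, c * u ≠ u * c) :
    q ≤ Set.ncard {x | ∃ c ∈ Bridge.pos ht Φ X, x = c * u * c⁻¹} := by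
  have huρ : u ∉ X ρ := by
    intro h
    obtain ⟨c, hc, hcu⟩ := hn
    exact hcu (D.central h hc).symm
  obtain ⟨a, ha, ha0, h⟩ := D.main hu huρ
  refine (hq a ha).trans ?_
  have h1 : Nat.card (X a) = Set.ncard ((X a : Set G)) := (Nat.card_coe_set_eq _)
  rw [h1]
  refine Set.ncard_le_ncard_of_injOn (fun y => y * u * y⁻¹) ?_ ?_ (Set.toFinite _)
  · intro y hy
    exact ⟨y, Bridge.le_pos ha ha0 hy, rfl⟩
  · intro y hy y' hy' hyy
    have hyy' : y * u * y⁻¹ = y' * u * y'⁻¹ := hyy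
    by_contra hne
    apply h (y'⁻¹ * y) (mul_mem (inv_mem hy') hy)
    · intro h2
      apply hne
      exact (inv_mul_eq_one.1 h2).symm
    · calc u * (y'⁻¹ * y) = y'⁻¹ * (y' * u * y'⁻¹) * y := by group
        _ = y'⁻¹ * (y * u * y⁻¹) * y := by rw [hyy']
        _ = y'⁻¹ * y * u := by group

end Data

end Cfsg.Agent.OddHalf.Out.Lead
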